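import Cfsg.Agent.Lib.Chevalley.E7Torus.Lift

/-!
The twisting element of E7 with characteristic polynomial `Φ₁₂ Φ₆ Φ₂`.
-/

set_option autoImplicit false
set_option maxRecDepth 20000

namespace CfsgLib.Chevalley.E7Torus

open Tbl hiding X
open CoxeterTorus SylowTorus CoverTorus
open Polynomial
open scoped Matrix

theorem ref_top : mat T7 hV (T7.refP hV top) =
    1 - Matrix.vecMulVec (Pi.single top 1) (Pi.single top 1 ᵥ* cartanZ T7) := by decide +kernel

theorem Zm_sq : Zm * Zm = 1 := by decide +kernel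

theorem refl_top_B : ∀ s ∈ B, s ≠ T7.simpF hV top → T7.refP hV top s = s := by decide +kernel

theorem card_B : B.card = 3 := by decide +kernel

/-- An element of E6 in E7 with an eigenvalue of order twelve, normalised. -/
structure Twelve (v : Equiv.Perm (Fin T7.n)) : Prop where
  mem : v ∈ T7.WP hV
  sixth : v ^ 6 = T7.pw hV zw7
  top_fix : ∀ s : Fin T7.n, T7.co (v s).val top.val = T7.co s.val top.val
  kill : ∀ x : Fin T7.rank → ℤ, x top = 0 →
    aeval (mat T7 hV v) (cyclotomic 12 ℤ * cyclotomic 3 ℤ) *ᵥ x = 0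
  charpoly : (mat T7 hV v).charpoly = cyclotomic 12 ℤ * cyclotomic 3 ℤ * (X - 1)

/-- The first root. -/
abbrev b0 : Fin T7.n := T7.simpF hV top

theorem cv_b0 : cv' b0 = Pi.single top 1 := by
  funext k
  show T7.co (T7.simple top.val) k.val = _
  rw [co_simple hV top.2 k.2, Pi.single_apply]
  simp [Fin.ext_iff]

theorem cv_negF (s : Fin T7.n) : cv' (T7.negF s) = -cv' s := by
  funext k
  exact co_neg hV s.2 k.2

theorem pr_comm (x y : Fin T7.rank → ℤ) : pr x y = pr y x := by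
  rw [pr, pr, Matrix.dotProduct_mulVec, dotProduct_comm, ← Matrix.mulVec_transpose, cartan_symm]

theorem pr_mat {u : Equiv.Perm (Fin T7.n)} (hu : u ∈ T7.WP hV) :
    (mat T7 hV u)ᵀ * cartanZ T7 * mat T7 hV u = cartanZ T7 := by
  obtain ⟨l, rfl⟩ := exists_pw hV hu
  clear hu
  induction l with
  | nil => rw [pw_nil, mat_one, Matrix.transpose_one, one_mul, mul_one]
  | cons i l ih =>
    rw [pw_cons, mat_mul hV (SylowTorus.refP_mem hV i), Matrix.transpose_mul]
    calc _ = (mat T7 hV (T7.pw hV l))ᵀ *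
          ((mat T7 hV (T7.refP hV i))ᵀ * cartanZ T7 * mat T7 hV (T7.refP hV i)) * mat T7 hV (T7.pw hV l) := by
          simp only [mul_assoc]
      _ = _ := by rw [refP_form, ih]

theorem pr_mulVec {u : Equiv.Perm (Fin T7.n)} (hu : u ∈ T7.WP hV) (x y : Fin T7.rank → ℤ) :
    pr (mat T7 hV u *ᵥ x) (mat T7 hV u *ᵥ y) = pr x y := by
  conv_rhs => rw [pr, ← pr_mat hu]
  rw [pr, ← Matrix.mulVec_mulVec, ← Matrix.mulVec_mulVec, dotProduct_comm (mat T7 hV u *ᵥ x),
    Matrix.dotProduct_mulVec, ← Matrix.mulVec_transpose, dotProduct_comm]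

theorem proj {x : Fin T7.rank → ℤ} (hx : Zm *ᵥ x = x) : x = ∑ s ∈ B, (Lf s ⬝ᵥ x) • cv' s := by
  have h : ((1 - ∑ s ∈ B, Matrix.vecMulVec (cv' s) (Lf s)) * (Zm + 1)) *ᵥ x = 0 := by
    rw [show ((1 - ∑ s ∈ B, Matrix.vecMulVec (cv' s) (Lf s)) * (Zm + 1)) = 0 from
      Matrix.ext fun i k => proj_fixed i k, Matrix.zero_mulVec]
  rw [← Matrix.mulVec_mulVec, Matrix.add_mulVec, hx, Matrix.one_mulVec, ← two_smul ℤ x, Matrix.mulVec_smul,
    Matrix.sub_mulVec, Matrix.one_mulVec, Matrix.sum_mulVec, smul_eq_zero] at h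
  rcases h with h | h
  · norm_num at h
  · rw [sub_eq_zero] at h
    conv_lhs => rw [h]
    refine Finset.sum_congr rfl fun s _ => ?_
    funext k
    simp [Matrix.mulVec, Matrix.vecMulVec, dotProduct, Finset.mul_sum, mul_assoc, mul_comm]

theorem neg_support {x : Fin T7.rank → ℤ} (hx : Zm *ᵥ x = -x) {i : Fin T7.rank}
    (hi : i.val = 0 ∨ i.val = 5 ∨ i.val = 6) : x i = 0 := by
  have h : ((1 - Zm) *ᵥ x) i = 0 := by
    show ∑ k, (1 - Zm) i k * x k = 0
    exact Finset.sum_eq_zero fun k _ => by rw [Zm_rows hi, zero_mul]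
  rw [Matrix.sub_mulVec, Matrix.one_mulVec, hx, sub_neg_eq_add, Pi.add_apply] at h
  omega

theorem Zm_cv (s : Fin T7.n) : Zm *ᵥ cv' s = cv' (T7.pw hV zw7 s) := by
  rw [← Zm_eq]
  exact mat_mulVec hV (pw_mem hV _) s

variable {v : Equiv.Perm (Fin T7.n)} (hv : Twelve v)
include hv

theorem Twelve.mem' : T7.refP hV top * v ∈ T7.WP hV := mul_mem (SylowTorus.refP_mem hV top) hv.mem

theorem Twelve.mat_six : mat T7 hV v ^ 6 = Zm := by
  rw [← mat_pow hV hv.mem, hv.sixth, Zm_eq]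

theorem Twelve.comm_Zm : Zm * mat T7 hV v = mat T7 hV v * Zm := by
  rw [← hv.mat_six, ← pow_succ, ← pow_succ']

theorem Twelve.map_B {s : Fin T7.n} (hs : s ∈ B) : v s ∈ B := by
  have hz : T7.pw hV zw7 (v s) = v s := by
    rw [← hv.sixth, ← Equiv.Perm.mul_apply, ← pow_succ, pow_succ', Equiv.Perm.mul_apply, hv.sixth,
      show T7.pw hV zw7 s = s from Fin.ext (by rw [pw_wapp hV]; exact fixed_B s hs)]
  rcases fixed_roots (v s) (by rw [← pw_wapp hV, hz]) with h | h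
  · exact h
  · exfalso
    have h1 := co_top_B _ h
    rw [negF, co_neg hV (Fin.isLt _) top.2, hv.top_fix, co_top_B s hs] at h1
    omega

theorem Twelve.no_fix {s : Fin T7.n} (hs : s ∈ B) : v s ≠ s := by
  intro hfix
  set M := mat T7 hV v with hM
  set x := (3 : ℤ) • cv' s - ∑ t ∈ B, cv' t with hxdef
  have hsum : M *ᵥ (∑ t ∈ B, cv' t) = ∑ t ∈ B, cv' t := by
    rw [Matrix.mulVec_sum]
    refine (Finset.sum_congr rfl fun t _ => mat_mulVec hV hv.mem t).trans ?_
    refine Finset.sum_nbij (fun t => v t) (fun t ht => hv.map_B ht) v.injective.injOn ?_ fun t _ => rfl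
    exact (Finset.surjOn_of_injOn_of_card_le _ (fun t ht => hv.map_B ht) v.injective.injOn le_rfl)
  have hx : x top = 0 := by
    rw [hxdef, Pi.sub_apply, Pi.smul_apply, Finset.sum_apply]
    show (3 : ℤ) • T7.co s.val top.val - ∑ t ∈ B, T7.co t.val top.val = 0
    rw [Finset.sum_congr rfl fun t ht => co_top_B t ht, co_top_B s hs, Finset.sum_const, card_B]
    rfl
  have hMx : M *ᵥ x = x := by
    rw [hxdef, Matrix.mulVec_sub, Matrix.mulVec_smul, hsum,
      show M *ᵥ cv' s = cv' (v s) from mat_mulVec hV hv.mem s, hfix]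
  have hk : ∀ k : ℕ, M ^ k *ᵥ x = x := by
    intro k
    induction k with
    | zero => rw [pow_zero, Matrix.one_mulVec]
    | succ k ih => rw [pow_succ, ← Matrix.mulVec_mulVec, hMx, ih]
  have h := hv.kill x hx
  rw [cyclotomic_twelve, cyclotomic_three] at h
  simp only [map_mul, map_add, map_sub, map_pow, aeval_X, map_one] at h
  simp only [← hM, ← Matrix.mulVec_mulVec, Matrix.add_mulVec, Matrix.one_mulVec, Matrix.mulVec_add, hk, hMx,
    Matrix.sub_mulVec] at h
  have h1 := congrArg (fun y => Lf s ⬝ᵥ y) h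
  have h2 : Lf s ⬝ᵥ x = 2 := by
    rw [hxdef, dotProduct_sub, dotProduct_smul, dotProduct_sum, Lf_dual s hs s hs, if_pos rfl,
      Finset.sum_congr rfl fun t ht => Lf_dual s hs t ht, Finset.sum_ite_eq B s (fun _ => (1 : ℤ)), if_pos hs]
    rfl
  simp only [dotProduct_add, dotProduct_sub, h2, dotProduct_zero] at h1
  omega

/-- The three roots form a cycle. -/
theorem Twelve.cycle : v b0 ∈ B ∧ v (v b0) ∈ B ∧ b0 ≠ v b0 ∧ b0 ≠ v (v b0) ∧ v b0 ≠ v (v b0) ∧
    v (v (v b0)) = b0 ∧ B = {b0, v b0, v (v b0)} := by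
  have h0 : b0 ∈ B := top_B
  have h1 := hv.map_B h0
  have h2 := hv.map_B h1
  have n01 : b0 ≠ v b0 := Ne.symm (hv.no_fix h0)
  have n12 : v b0 ≠ v (v b0) := Ne.symm (hv.no_fix h1)
  have n02 : b0 ≠ v (v b0) := by
    intro e
    obtain ⟨t, ht, htne⟩ : ∃ t ∈ B, t ∉ ({b0, v b0} : Finset (Fin T7.n)) := by
      by_contra hc
      push Not at hc
      have := Finset.card_le_card hc
      rw [card_B, Finset.card_pair n01] at this
      omega
    simp only [Finset.mem_insert, Finset.mem_singleton, not_or] at htne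
    have hB : B = {b0, v b0, t} := (Finset.eq_of_subset_of_card_le (by
      simp [Finset.insert_subset_iff, h0, h1, ht]) (by
      rw [card_B, Finset.card_insert_of_notMem (by simp [n01, Ne.symm htne.1]),
        Finset.card_pair (Ne.symm htne.2)])).symm
    have h3 := hv.map_B ht
    rw [hB] at h3
    simp only [Finset.mem_insert, Finset.mem_singleton] at h3
    rcases h3 with h3 | h3 | h3
    · exact htne.2 (v.injective (h3.trans e))
    · exact htne.1 (v.injective h3)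
    · exact hv.no_fix ht h3
  have hB : B = {b0, v b0, v (v b0)} := (Finset.eq_of_subset_of_card_le (by
      simp [Finset.insert_subset_iff, h0, h1, h2]) (by
      rw [card_B, Finset.card_insert_of_notMem (by simp [n01, n02]), Finset.card_pair n12])).symm
  refine ⟨h1, h2, n01, n02, n12, ?_, hB⟩
  have h3 := hv.map_B h2
  rw [hB] at h3
  simp only [Finset.mem_insert, Finset.mem_singleton] at h3
  rcases h3 with h3 | h3 | h3
  · exact h3
  · exact absurd (v.injective h3).symm n02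
  · exact absurd (v.injective h3).symm n12

theorem Twelve.twist_cycle : (T7.refP hV top * v) b0 = v b0 ∧ (T7.refP hV top * v) (v b0) = v (v b0) ∧
    (T7.refP hV top * v) (v (v b0)) = T7.negF b0 := by
  obtain ⟨h1, h2, n01, n02, -, h3, -⟩ := hv.cycle
  refine ⟨refl_top_B _ h1 n01.symm, refl_top_B _ h2 n02.symm, ?_⟩
  rw [Equiv.Perm.mul_apply, h3, refP_simpF]

/-- The twisting element on vectors. -/
theorem Twelve.twist_mulVec (x : Fin T7.rank → ℤ) : mat T7 hV (T7.refP hV top * v) *ᵥ x =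
    mat T7 hV v *ᵥ x - pr (cv' b0) (mat T7 hV v *ᵥ x) • cv' b0 := by
  rw [mat_mul hV (SylowTorus.refP_mem hV top), ← Matrix.mulVec_mulVec, ref_top, Matrix.sub_mulVec,
    Matrix.one_mulVec, cv_b0]
  congr 1
  funext k
  simp [pr, Matrix.mulVec, Matrix.vecMulVec, dotProduct, Finset.mul_sum, mul_assoc, mul_comm, Matrix.vecMul,
    Pi.single_apply]

theorem Twelve.twist_comm (x : Fin T7.rank → ℤ) :
    Zm *ᵥ (mat T7 hV (T7.refP hV top * v) *ᵥ x) = mat T7 hV (T7.refP hV top * v) *ᵥ (Zm *ᵥ x) := by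
  have hb : Zm *ᵥ cv' b0 = cv' b0 := by
    rw [Zm_cv, show T7.pw hV zw7 b0 = b0 from Fin.ext (by rw [pw_wapp hV]; exact fixed_B _ top_B)]
  have hp := pr_mulVec (pw_mem hV zw7) (cv' b0) (mat T7 hV v *ᵥ x)
  rw [Zm_eq, hb] at hp
  have hc : mat T7 hV v *ᵥ (Zm *ᵥ x) = Zm *ᵥ (mat T7 hV v *ᵥ x) := by
    rw [Matrix.mulVec_mulVec, Matrix.mulVec_mulVec, hv.comm_Zm]
  rw [hv.twist_mulVec, hv.twist_mulVec, Matrix.mulVec_sub, Matrix.mulVec_smul, hb, hc, hp]

theorem Twelve.twist_neg {x : Fin T7.rank → ℤ} (hx : Zm *ᵥ x = -x) :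
    mat T7 hV (T7.refP hV top * v) *ᵥ x = mat T7 hV v *ᵥ x ∧
      Zm *ᵥ (mat T7 hV v *ᵥ x) = -(mat T7 hV v *ᵥ x) := by
  have h1 : Zm *ᵥ (mat T7 hV v *ᵥ x) = -(mat T7 hV v *ᵥ x) := by
    rw [Matrix.mulVec_mulVec, hv.comm_Zm, ← Matrix.mulVec_mulVec, hx, Matrix.mulVec_neg]
  refine ⟨?_, h1⟩
  have h2 : pr (cv' b0) (mat T7 hV v *ᵥ x) = 0 := by
    have h3 := pr_mulVec (pw_mem hV zw7) (cv' b0) (mat T7 hV v *ᵥ x)
    rw [Zm_eq, h1, Zm_cv, show T7.pw hV zw7 b0 = b0 from Fin.ext (by rw [pw_wapp hV]; exact fixed_B _ top_B),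
      show pr (cv' b0) (-(mat T7 hV v *ᵥ x)) = -pr (cv' b0) (mat T7 hV v *ᵥ x) by
        simp [pr, Matrix.mulVec_neg]] at h3
    omega
  rw [hv.twist_mulVec, h2, zero_smul, sub_zero]

theorem Twelve.twist_neg_pow {x : Fin T7.rank → ℤ} (hx : Zm *ᵥ x = -x) (i : ℕ) :
    mat T7 hV (T7.refP hV top * v) ^ i *ᵥ x = mat T7 hV v ^ i *ᵥ x ∧
      Zm *ᵥ (mat T7 hV v ^ i *ᵥ x) = -(mat T7 hV v ^ i *ᵥ x) := by
  induction i with
  | zero => simp [hx]
  | succ i ih =>
    obtain ⟨h1, h2⟩ := hv.twist_neg ih.2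
    simp only [pow_succ', ← Matrix.mulVec_mulVec, ih.1]
    exact ⟨h1, h2⟩

/-- The vectors negated by the negator are killed by `Φ₁₂`. -/
theorem Twelve.neg_kill {x : Fin T7.rank → ℤ} (hx : Zm *ᵥ x = -x) :
    aeval (mat T7 hV v) (cyclotomic 12 ℤ) *ᵥ x = 0 := by
  set M := mat T7 hV v
  have h := hv.kill x (neg_support hx (Or.inr (Or.inr rfl)))
  rw [mul_comm, map_mul, ← Matrix.mulVec_mulVec] at h
  set y := aeval M (cyclotomic 12 ℤ) *ᵥ x with hy
  have hy' : M ^ 6 *ᵥ y = -y := by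
    rw [hy, Matrix.mulVec_mulVec, show M ^ 6 * aeval M (cyclotomic 12 ℤ) = aeval M (cyclotomic 12 ℤ) * M ^ 6 by
      rw [show M ^ 6 = aeval M (X ^ 6 : ℤ[X]) by simp, ← map_mul, ← map_mul, mul_comm],
      ← Matrix.mulVec_mulVec, hv.mat_six, hx, Matrix.mulVec_neg]
  rw [cyclotomic_three] at h
  simp only [map_add, map_pow, aeval_X, map_one, Matrix.add_mulVec, Matrix.one_mulVec] at h
  have h3 : M ^ 3 *ᵥ y = y := by
    have e : M ^ 3 = (M - 1) * (M ^ 2 + M + 1) + 1 := by noncomm_ring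
    rw [e, Matrix.add_mulVec, ← Matrix.mulVec_mulVec, Matrix.add_mulVec, Matrix.add_mulVec, Matrix.one_mulVec,
      h, Matrix.mulVec_zero, zero_add]
  rw [show (6 : ℕ) = 3 + 3 from rfl, pow_add, ← Matrix.mulVec_mulVec, h3, h3] at hy'
  funext k
  have := congrFun hy' k
  simp only [Pi.neg_apply, Pi.zero_apply] at this ⊢
  omega

/-- The fixed lattice of the cube. -/
theorem Twelve.cube_fixed {t : Fin T7.rank → ℤ}
    (h : mat T7 hV (T7.refP hV top * v) ^ 3 *ᵥ t = -t) : Zm *ᵥ t = t := by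
  set M' := mat T7 hV (T7.refP hV top * v)
  have hc : ∀ x, Zm *ᵥ (M' *ᵥ x) = M' *ᵥ (Zm *ᵥ x) := hv.twist_comm
  set x := t - Zm *ᵥ t with hx
  have hn : Zm *ᵥ x = -x := by
    rw [hx, Matrix.mulVec_sub, Matrix.mulVec_mulVec t Zm Zm, Zm_sq, Matrix.one_mulVec, neg_sub]
  have h3 : M' ^ 3 *ᵥ x = -x := by
    rw [hx, Matrix.mulVec_sub, h]
    simp only [pow_succ, pow_zero, one_mul, ← Matrix.mulVec_mulVec] at h ⊢
    rw [← hc, ← hc, ← hc, h, Matrix.mulVec_neg]
    abel
  have h4 : M' ^ 6 *ᵥ x = x := by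
    rw [show (6 : ℕ) = 3 + 3 from rfl, pow_add, ← Matrix.mulVec_mulVec, h3, Matrix.mulVec_neg, h3, neg_neg]
  rw [(hv.twist_neg_pow hn 6).1, hv.mat_six, hn] at h4
  have h5 : x = 0 := funext fun k => by
    have := congrFun h4 k
    simp only [Pi.neg_apply, Pi.zero_apply] at this ⊢
    omega
  exact (sub_eq_zero.1 h5).symm

omit hv in
theorem det_rank_one {R : Type*} [CommRing R] [IsDomain R] {ι : Type*} [Fintype ι] [DecidableEq ι] {n : ℕ}
    (hn : Fintype.card ι = n + 1) {t c : R}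
    (A A' : Matrix ι ι R) (u p : ι → R) (ht : t ≠ 0) (hu : p ⬝ᵥ u = c)
    (key : t • A' = A * (t • 1 + Matrix.vecMulVec u p)) :
    t ^ (n + 1) * A'.det = A.det * (t ^ n * (t + c)) := by
  have h := congrArg Matrix.det key
  rw [Matrix.det_smul, Matrix.det_mul, hn] at h
  rw [h]
  congr 1
  have hf := IsFractionRing.injective R (FractionRing R)
  refine hf ?_
  set f := algebraMap R (FractionRing R)
  have hft : f t ≠ 0 := (map_ne_zero_iff f hf).2 ht
  rw [RingHom.map_det, show f.mapMatrix (t • 1 + Matrix.vecMulVec u p) =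
    f t • (1 + Matrix.vecMulVec ((f t)⁻¹ • (f ∘ u)) (f ∘ p)) by
      ext i k
      simp [Matrix.vecMulVec_apply, Matrix.one_apply]
      split <;> simp [mul_add, ← mul_assoc, hft]]
  rw [Matrix.det_smul, Matrix.vecMulVec_eq (ι := Unit), Matrix.det_one_add_replicateCol_mul_replicateRow,
    dotProduct_smul, hn, show (f ∘ p) ⬝ᵥ (f ∘ u) = f c by
      rw [← hu]; simp [dotProduct, map_sum],
    pow_succ, map_mul, map_pow, map_add, smul_eq_mul]
  field_simp

/-- The characteristic polynomial of the twisting element. -/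
theorem Twelve.twist_charpoly :
    (mat T7 hV (T7.refP hV top * v)).charpoly = cyclotomic 12 ℤ * (X ^ 3 + 1) := by
  obtain ⟨h1, h2, n01, n02, n12, h3, -⟩ := hv.cycle
  set M := mat T7 hV v with hM
  set A : Matrix (Fin T7.rank) (Fin T7.rank) ℤ[X] := M.charmatrix
  let C' : (Fin T7.rank → ℤ) → Fin T7.rank → ℤ[X] := fun x i => C (x i)
  let p : Fin T7.rank → ℤ := fun k => pr (cv' b0) (M *ᵥ Pi.single k 1)
  have hmv : ∀ r : Fin T7.n, M *ᵥ cv' r = cv' (v r) := fun r => mat_mulVec hV hv.mem r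
  let u : Fin T7.rank → ℤ[X] := (X ^ 2 : ℤ[X]) • C' (cv' b0) + (X : ℤ[X]) • C' (cv' (v b0)) + C' (cv' (v (v b0)))
  have hA : ∀ x, A *ᵥ C' x = (X : ℤ[X]) • C' x - C' (M *ᵥ x) := by
    intro x
    simp only [A, Matrix.charmatrix, Matrix.sub_mulVec]
    congr 1
    · funext i; simp [Matrix.scalar_apply, Matrix.mulVec_diagonal, C']
    · funext i; simp [C', Matrix.mulVec, dotProduct, map_sum]
  have hu : A *ᵥ u = (X ^ 3 - 1 : ℤ[X]) • C' (cv' b0) := by
    simp only [u, Matrix.mulVec_add, Matrix.mulVec_smul, hA, hmv, h3]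
    module
  have hp : ∀ x : Fin T7.rank → ℤ, C' p ⬝ᵥ C' x = C (pr (cv' b0) (M *ᵥ x)) := by
    intro x
    simp only [C', dotProduct, ← map_mul, ← map_sum, p]
    congr 1
    have e : ∀ y, pr (cv' b0) (M *ᵥ y) = (cv' b0 ᵥ* cartanZ T7 ᵥ* M) ⬝ᵥ y := fun y => by
      rw [pr, Matrix.dotProduct_mulVec, Matrix.dotProduct_mulVec]
    simp only [e, dotProduct_single, mul_one]
    rfl
  have hpu : C' p ⬝ᵥ u = 2 := by
    simp only [u, dotProduct_add, dotProduct_smul, hp, hmv, h3]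
    have e1 := B_form b0 top_B (v b0) h1
    have e2 := B_form b0 top_B (v (v b0)) h2
    have e0 := B_form b0 top_B b0 top_B
    rw [if_neg n01] at e1
    rw [if_neg n02] at e2
    rw [if_pos rfl] at e0
    simp [e0, e1, e2]
  have hA' : (mat T7 hV (T7.refP hV top * v)).charmatrix =
      A + Matrix.vecMulVec (C' (cv' b0)) (C' p) := by
    ext i k : 1
    have e := congrFun (hv.twist_mulVec (Pi.single k 1)) i
    simp only [Matrix.mulVec_single_one, Matrix.col_apply, Pi.sub_apply, Pi.smul_apply, smul_eq_mul] at e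
    simp only [A, Matrix.charmatrix, Matrix.sub_apply, Matrix.add_apply, RingHom.mapMatrix_apply,
      Matrix.map_apply, Matrix.vecMulVec_apply, C', p, e, hM]
    rw [Matrix.mulVec_single_one]
    simp only [map_sub, map_mul]
    ring
  set t : ℤ[X] := X ^ 3 - 1 with ht
  have ht0 : t ≠ 0 := (monic_X_pow_sub_C (1 : ℤ) (by norm_num : (3 : ℕ) ≠ 0)).ne_zero
  have key : t • (mat T7 hV (T7.refP hV top * v)).charmatrix =
      A * (t • 1 + Matrix.vecMulVec u (C' p)) := by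
    rw [hA', mul_add, Matrix.mul_smul, mul_one, Matrix.mul_vecMulVec, hu, smul_add, Matrix.smul_vecMulVec]
  have h := det_rank_one (Fintype.card_fin T7.rank : _ = 6 + 1) A _ u (C' p) ht0 hpu key
  have hc : A.det = cyclotomic 12 ℤ * cyclotomic 3 ℤ * (X - 1) := hv.charpoly
  rw [hc, cyclotomic_three, ht] at h
  rw [Matrix.charpoly]
  apply mul_left_cancel₀ (pow_ne_zero 7 ht0)
  rw [ht]
  linear_combination h

end CfsgLib.Chevalley.E7Torus
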