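import Cfsg.Agent.Lib.Chevalley.CoverTorus.E6
import Cfsg.Agent.Lib.Chevalley.CoverTorus.Coweight
import Cfsg.Agent.Lib.KnownA.SteinbergCert.Emb

/-!
Root data of E7 next to a subsystem of type E6: the three orthogonal roots fixed by the negator of D4.
-/

set_option autoImplicit false
set_option maxRecDepth 20000
set_option Elab.async false

namespace CfsgLib.Chevalley.E7Torus

open Tbl hiding X
open CoxeterTorus SylowTorus CoverTorus
open CfsgLib.KnownA.SteinbergUniv
open scoped Matrix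

/-- The table of E7. -/
abbrev T7 : Tbl := Data.E7.tbl

/-- The table of E6. -/
abbrev T6 : Tbl := Data.E6.tbl

abbrev hV : T7.Valid := Data.E7.valid
abbrev hV6 : T6.Valid := Data.E6.valid

/-- The inclusion of the fundamental roots of E6. -/
def up (i : Fin T6.rank) : Fin T7.rank := Fin.castLE (by decide) i

/-- The last fundamental index. -/
def top : Fin T7.rank := ⟨6, by decide⟩

theorem io_lt : ∀ r : Fin T6.n, ioE6 r.val < T7.n := by decide +kernel

/-- The inclusion of the roots of E6. -/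
def ioF (r : Fin T6.n) : Fin T7.n := ⟨ioE6 r.val, io_lt r⟩

theorem io_simple : ∀ i : Fin T6.rank, ioE6 (T6.simple i.val) = T7.simple (up i).val := by decide +kernel

theorem io_refl : ∀ (i : Fin T6.rank) (r : Fin T6.n),
    T7.refl (up i).val (ioE6 r.val) = ioE6 (T6.refl i.val r.val) := by decide +kernel

theorem io_co : ∀ r : Fin T6.n, T7.co (ioE6 r.val) top.val = 0 ∧
    ∀ i : Fin T6.rank, T7.co (ioE6 r.val) (up i).val = T6.co r.val i.val := by decide +kernel

/-- The negator of D4 in E7. -/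
def zw7 : List (Fin T7.rank) := E6.zw.map up

/-- Its matrix. -/
def Zm : Matrix (Fin T7.rank) (Fin T7.rank) ℤ :=
  Matrix.of fun i k => T7.co (wapp T7 (zw7.map Fin.val) (T7.simple k.val)) i.val

theorem Zm_eq : mat T7 hV (T7.pw hV zw7) = Zm := by
  ext i k
  show T7.co (T7.pw hV zw7 (T7.simpF hV k)).val i.val = _
  rw [pw_wapp hV]
  rfl

/-- The three orthogonal roots. -/
def B : Finset (Fin T7.n) := Finset.univ.filter fun s => s.val = 63 ∨ s.val = 92 ∨ s.val = 125

/-- The roots outside the span of D4 and its orthogonal complement. -/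
theorem fixed_roots : ∀ s : Fin T7.n, wapp T7 (zw7.map Fin.val) s.val = s.val →
    s ∈ B ∨ T7.negF s ∈ B := by decide +kernel

theorem fixed_B : ∀ s ∈ B, wapp T7 (zw7.map Fin.val) s.val = s.val := by decide +kernel

theorem top_B : T7.simpF hV top ∈ B := by decide +kernel

theorem co_top_B : ∀ s ∈ B, T7.co s.val top.val = 1 := by decide +kernel

theorem B_comm : ∀ s ∈ B, ∀ t ∈ B, s ≠ t → T7.commT s.val t.val = [] ∧
    T7.commT s.val (T7.neg t.val) = [] ∧ T7.commT (T7.neg s.val) t.val = [] ∧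
    T7.commT (T7.neg s.val) (T7.neg t.val) = [] := by decide +kernel

/-- The invariant form. -/
def pr (x y : Fin T7.rank → ℤ) : ℤ := x ⬝ᵥ (cartanZ T7 *ᵥ y)

/-- The vector of a root. -/
def cv' (s : Fin T7.n) : Fin T7.rank → ℤ := fun j => T7.co s.val j.val

theorem B_form : ∀ s ∈ B, ∀ t ∈ B, pr (cv' s) (cv' t) = if s = t then 2 else 0 := by
  unfold pr cv'
  decide +kernel

theorem form_bound : ∀ b0 b1 b2 : Fin T7.n, b0 ∈ B → b1 ∈ B → b2 ∈ B → ∀ s : Fin T7.n,
    |pr (cv' b0) (cv' s) + pr (cv' b1) (cv' s) + pr (cv' b2) (cv' s)| ≤ 6 := by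
  have h : ∀ b ∈ B, ∀ s : Fin T7.n, |pr (cv' b) (cv' s)| ≤ 2 := by
    unfold pr cv'
    decide +kernel
  intro b0 b1 b2 h0 h1 h2 s
  have := abs_le.1 (h b0 h0 s)
  have := abs_le.1 (h b1 h1 s)
  have := abs_le.1 (h b2 h2 s)
  exact abs_le.2 ⟨by omega, by omega⟩

/-- Functionals dual to the three roots. -/
def Lf (s : Fin T7.n) : Fin T7.rank → ℤ :=
  if s.val = 63 then fun i => [0, -2, 1, 0, 0, 0, 1].getD i.val 0
  else if s.val = 92 then fun i => [0, 3, -2, 0, 0, 0, 0].getD i.val 0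
  else fun i => [0, -1, 1, 0, 0, 0, 0].getD i.val 0

theorem Lf_dual : ∀ s ∈ B, ∀ t ∈ B, Lf s ⬝ᵥ cv' t = if s = t then 1 else 0 := by
  unfold cv'
  decide +kernel

/-- Twice a vector less its components along the three roots vanishes on the fixed space of the negator. -/
theorem proj_fixed : ∀ i k : Fin T7.rank,
    ((1 - ∑ s ∈ B, Matrix.vecMulVec (cv' s) (Lf s)) * (Zm + 1)) i k = 0 := by
  unfold cv'
  decide +kernel

theorem Zm_rows_aux : ∀ i k : Fin T7.rank, (decide (i.val = 0) || decide (i.val = 5) || decide (i.val = 6)) = true →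
    decide ((1 - Zm) i k = 0) = true := by
  decide +kernel

theorem Zm_rows {i : Fin T7.rank} (h : i.val = 0 ∨ i.val = 5 ∨ i.val = 6) (k : Fin T7.rank) :
    (1 - Zm) i k = 0 :=
  of_decide_eq_true (Zm_rows_aux i k (by rcases h with h | h | h <;> simp [h]))

theorem cartan_symm : (cartanZ T7)ᵀ = cartanZ T7 := by decide +kernel

theorem refP_form : ∀ i : Fin T7.rank,
    (mat T7 hV (T7.refP hV i))ᵀ * cartanZ T7 * mat T7 hV (T7.refP hV i) = cartanZ T7 := by
  decide +kernel

/-- Twice the inverse of the Cartan matrix. -/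
def Dm : Matrix (Fin T7.rank) (Fin T7.rank) ℤ := Matrix.of fun i k =>
  (([[4, 4, 6, 8, 6, 4, 2], [4, 7, 8, 12, 9, 6, 3], [6, 8, 12, 16, 12, 8, 4], [8, 12, 16, 24, 18, 12, 6],
    [6, 9, 12, 18, 15, 10, 5], [4, 6, 8, 12, 10, 8, 4], [2, 3, 4, 6, 5, 4, 3]] : List (List ℤ)).getD i.val []).getD
      k.val 0

theorem cartan_Dm : cartanZ T7 * Dm = (2 : ℤ) • 1 := by decide +kernel

end CfsgLib.Chevalley.E7Torus
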