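import Cfsg.Agent.Lib.Chevalley.E7Torus.Data

/-!
Weyl group elements of E6 seen in E7.
-/

set_option autoImplicit false
set_option maxRecDepth 20000

namespace CfsgLib.Chevalley.E7Torus

open Tbl hiding X
open CoxeterTorus SylowTorus CoverTorus
open Polynomial
open CfsgLib.KnownA.SteinbergUniv
open scoped Matrix

theorem up_cases (k : Fin T7.rank) : k = top ∨ ∃ i : Fin T6.rank, k = up i := by
  rcases Nat.lt_or_ge k.val 6 with h | h
  · exact Or.inr ⟨⟨k.val, h⟩, Fin.ext rfl⟩
  · refine Or.inl (Fin.ext ?_)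
    have := k.2
    have h7 : T7.rank = 7 := rfl
    show k.val = 6
    omega

theorem pw_ioF (l : List (Fin T6.rank)) (r : Fin T6.n) :
    T7.pw hV (l.map up) (ioF r) = ioF (T6.pw hV6 l r) := by
  induction l with
  | nil => rfl
  | cons i l ih =>
    rw [List.map_cons, pw_cons, pw_cons, Equiv.Perm.mul_apply, ih, Equiv.Perm.mul_apply]
    exact Fin.ext (io_refl i _)

theorem top_fixed (l : List (Fin T6.rank)) (s : Fin T7.n) :
    T7.co (T7.pw hV (l.map up) s).val top.val = T7.co s.val top.val := by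
  induction l with
  | nil => rfl
  | cons i l ih =>
    rw [List.map_cons, pw_cons, Equiv.Perm.mul_apply, refP_apply,
      co_refl hV (up i).2 (Fin.isLt _) top.2, ih, if_neg, sub_zero]
    exact fun h => absurd (show (6 : ℕ) = i.val from h) (by have := i.2; have h6 : T6.rank = 6 := rfl; omega)

/-- The E7 element of a word is determined by its action on the roots of E6. -/
theorem pw_congr {l l' : List (Fin T6.rank)} (h : T6.pw hV6 l = T6.pw hV6 l') :
    T7.pw hV (l.map up) = T7.pw hV (l'.map up) := by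
  rw [← inv_mul_eq_one, ← pw_reverse, ← pw_append, ← List.map_reverse, ← List.map_append]
  have h1 : T6.pw hV6 (l.reverse ++ l') = 1 := by rw [pw_append, pw_reverse, h, inv_mul_cancel]
  refine eq_one_of_pos hV (pw_mem hV _) fun k => ?_
  rcases up_cases k with rfl | ⟨i, rfl⟩
  · by_contra hlt
    rw [not_le] at hlt
    have h2 := co_nonneg' hV (le_negF hlt) top.2
    rw [negF, co_neg hV (Fin.isLt _) top.2, top_fixed] at h2
    rw [show (T7.simpF hV top).val = T7.simple top.val from rfl, co_simple hV top.2 top.2, if_pos rfl] at h2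
    omega
  · rw [show T7.simpF hV (up i) = ioF (T6.simpF hV6 i) from Fin.ext (io_simple i).symm, pw_ioF, h1,
      Equiv.Perm.one_apply, show ioF (T6.simpF hV6 i) = T7.simpF hV (up i) from Fin.ext (io_simple i)]
    exact half_le_simpF hV _

theorem WP_map {l : List (Fin T6.rank)} : T7.pw hV (l.map up) ∈ T7.WP hV := pw_mem hV _

/-- The first six columns. -/
theorem mat_up (l : List (Fin T6.rank)) (i j : Fin T6.rank) :
    mat T7 hV (T7.pw hV (l.map up)) (up i) (up j) = mat T6 hV6 (T6.pw hV6 l) i j := by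
  show T7.co (T7.pw hV (l.map up) (T7.simpF hV (up j))).val (up i).val = _
  rw [show T7.simpF hV (up j) = ioF (T6.simpF hV6 j) from Fin.ext (io_simple j).symm, pw_ioF]
  exact (io_co _).2 i

theorem mat_top (l : List (Fin T6.rank)) (k : Fin T7.rank) :
    mat T7 hV (T7.pw hV (l.map up)) top k = if k = top then 1 else 0 := by
  show T7.co (T7.pw hV (l.map up) (T7.simpF hV k)).val top.val = _
  rw [top_fixed, show (T7.simpF hV k).val = T7.simple k.val from rfl, co_simple hV k.2 top.2]
  simp [Fin.ext_iff, eq_comm]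

theorem sum_up {R : Type*} [AddCommMonoid R] (f : Fin T7.rank → R) : ∑ k, f k = (∑ j, f (up j)) + f top :=
  Fin.sum_univ_castSucc (n := 6) f

theorem charpoly_last {n : ℕ} (A : Matrix (Fin (n + 1)) (Fin (n + 1)) ℤ)
    (h : ∀ k, A (Fin.last n) k = if k = Fin.last n then 1 else 0) :
    A.charpoly = (A.submatrix Fin.castSucc Fin.castSucc).charpoly * (X - 1) := by
  rw [Matrix.charpoly, Matrix.det_succ_row _ (Fin.last n), Finset.sum_eq_single (Fin.last n)]
  · rw [Even.neg_one_pow ⟨_, rfl⟩, one_mul, mul_comm, Matrix.charmatrix_apply_eq, h, if_pos rfl, map_one]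
    congr 1
    rw [Matrix.charpoly, Fin.succAbove_last]
    congr 1
    ext i j : 1
    rcases eq_or_ne i j with rfl | hij
    · simp [Matrix.charmatrix_apply_eq]
    · rw [Matrix.submatrix_apply, Matrix.charmatrix_apply_ne _ _ _ hij, Matrix.charmatrix_apply_ne _ _ _
        (fun e => hij (Fin.castSucc_injective _ e))]
      rfl
  · intro k _ hk
    rw [Matrix.charmatrix_apply_ne _ _ _ (Ne.symm hk), h, if_neg hk]
    simp
  · simp

theorem charpoly_lift (l : List (Fin T6.rank)) :
    (mat T7 hV (T7.pw hV (l.map up))).charpoly =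
      (mat T6 hV6 (T6.pw hV6 l)).charpoly * (X - 1) := by
  refine (charpoly_last (n := 6) (mat T7 hV (T7.pw hV (l.map up))) (mat_top l)).trans ?_
  congr 2
  ext i j
  exact mat_up l i j

/-- Vectors supported on E6. -/
theorem mulVec_low (l : List (Fin T6.rank)) {x : Fin T7.rank → ℤ} (hx : x top = 0) :
    (mat T7 hV (T7.pw hV (l.map up)) *ᵥ x) top = 0 ∧
      ∀ i, (mat T7 hV (T7.pw hV (l.map up)) *ᵥ x) (up i) = (mat T6 hV6 (T6.pw hV6 l) *ᵥ (x ∘ up)) i := by
  constructor
  · show ∑ k, _ * x k = 0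
    refine Finset.sum_eq_zero fun k _ => ?_
    rw [mat_top]
    split
    · next h => rw [h, hx, mul_zero]
    · rw [zero_mul]
  · intro i
    show ∑ k, _ * x k = ∑ j, _ * x (up j)
    rw [sum_up, hx, mul_zero, add_zero]
    exact Finset.sum_congr rfl fun j _ => congrArg (· * _) (mat_up l i j)

/-- A polynomial killing the E6 matrix kills the vectors supported on E6. -/
theorem aeval_low (l : List (Fin T6.rank)) {Q : ℤ[X]} (hQ : aeval (mat T6 hV6 (T6.pw hV6 l)) Q = 0)
    {x : Fin T7.rank → ℤ} (hx : x top = 0) :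
    aeval (mat T7 hV (T7.pw hV (l.map up))) Q *ᵥ x = 0 := by
  set M := mat T7 hV (T7.pw hV (l.map up))
  set M' := mat T6 hV6 (T6.pw hV6 l)
  have key : ∀ Q : ℤ[X], ∀ x : Fin T7.rank → ℤ, x top = 0 →
      (aeval M Q *ᵥ x) top = 0 ∧ ∀ i, (aeval M Q *ᵥ x) (up i) = (aeval M' Q *ᵥ (x ∘ up)) i := by
    intro Q
    induction Q using Polynomial.induction_on with
    | C a =>
      intro x hx
      simp [aeval_C, Algebra.algebraMap_eq_smul_one, Matrix.smul_mulVec, hx]
    | add P R hP hR =>
      intro x hx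
      obtain ⟨h1, h2⟩ := hP x hx
      obtain ⟨h3, h4⟩ := hR x hx
      simp only [map_add, Matrix.add_mulVec, Pi.add_apply]
      exact ⟨by rw [h1, h3, add_zero], fun i => by rw [h2, h4]⟩
    | monomial n a hn =>
      intro x hx
      obtain ⟨h1, h2⟩ := mulVec_low l hx
      rw [pow_succ, ← mul_assoc]
      simp only [map_mul (aeval M), map_mul (aeval M'), aeval_X, ← Matrix.mulVec_mulVec] at hn ⊢
      obtain ⟨h3, h4⟩ := hn (M *ᵥ x) h1
      refine ⟨h3, fun i => (h4 i).trans ?_⟩
      rw [show (M *ᵥ x) ∘ up = M' *ᵥ (x ∘ up) from funext h2]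
  obtain ⟨h1, h2⟩ := key Q x hx
  funext k
  rcases up_cases k with rfl | ⟨i, rfl⟩
  · exact h1
  · rw [h2, hQ]; simp

end CfsgLib.Chevalley.E7Torus
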