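import Cfsg.Agent.Lib.Chevalley.E7Torus.Regular
import Cfsg.Agent.Lib.Chevalley.CoverTorus.Main

/-!
The self-centralising cyclic torus of E7 of the twisting element.
-/

set_option autoImplicit false
set_option maxRecDepth 20000

namespace CfsgLib.Chevalley.E7Torus

open Tbl hiding X
open CoxeterTorus CoverTorus SylowTorus
open CfsgLib.KnownB.FieldAut (mapGL mapGL_inj map_torus map_group)
open scoped Matrix

namespace Exponents

variable {q : ℕ}

theorem base (hq : 1 < q) {d : ℤ} (h : (((q ^ 3 + 1 : ℕ) : ℤ)) ∣ d) :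
    d ≠ 2 ∧ d ≠ 4 ∧ d ≠ 2 * (q + 1) ∧ d ≠ 2 * (q - 1) ∧ d ≠ 2 * ((q : ℤ) ^ 2 + 1) ∧ d ≠ 2 * ((q : ℤ) ^ 2 - 1) := by
  push_cast at h
  have hqz : (2 : ℤ) ≤ q := by exact_mod_cast hq
  rcases eq_or_lt_of_le hqz with e | e
  · rw [← e] at h ⊢
    refine ⟨?_, ?_, ?_, ?_, ?_, ?_⟩ <;> rintro rfl <;> norm_num at h
  · have hb : 2 * ((q : ℤ) ^ 2 + 1) < (q : ℤ) ^ 3 + 1 := by
      have : 3 * (q : ℤ) ^ 2 ≤ (q : ℤ) * (q : ℤ) ^ 2 := mul_le_mul_of_nonneg_right (by omega) (sq_nonneg _)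
      have : (q : ℤ) * (q : ℤ) ^ 2 = (q : ℤ) ^ 3 := by ring
      nlinarith
    have hsq : (q : ℤ) + 1 ≤ (q : ℤ) ^ 2 := by nlinarith
    refine ⟨?_, ?_, ?_, ?_, ?_, ?_⟩ <;> rintro rfl <;>
      · have := Int.le_of_dvd (by omega) h
        omega

theorem cancel (q : ℕ) {d : ℤ} (h : (((q ^ 3 + 1 : ℕ) : ℤ)) ∣ (q : ℤ) * d) : (((q ^ 3 + 1 : ℕ) : ℤ)) ∣ d :=
  IsCoprime.dvd_of_dvd_mul_left ⟨1, -(q : ℤ) ^ 2, by push_cast; ring⟩ h

theorem single (hq : 1 < q) {i : ℕ} (hi : i < 3) : ¬ (((q ^ 3 + 1 : ℕ) : ℤ)) ∣ 2 * (q : ℤ) ^ i := by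
  intro h
  interval_cases i
  · exact (base hq h).1 (by ring)
  · exact (base hq (cancel q (d := 2) (by convert h using 1; ring))).1 rfl
  · exact (base hq (cancel q (d := 2) (cancel q (d := (q : ℤ) * 2) (by convert h using 1; ring)))).1 rfl

theorem sum (hq : 1 < q) {i j : ℕ} (hi : i < 3) (hj : j < 3) :
    ¬ (((q ^ 3 + 1 : ℕ) : ℤ)) ∣ 2 * (q : ℤ) ^ i + 2 * (q : ℤ) ^ j := by
  intro h
  interval_cases i <;> interval_cases j
  · exact (base hq h).2.1 (by ring)
  · exact (base hq h).2.2.1 (by ring)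
  · exact (base hq h).2.2.2.2.1 (by ring)
  · exact (base hq h).2.2.1 (by ring)
  · exact (base hq (cancel q (d := 4) (by convert h using 1; ring))).2.1 rfl
  · exact (base hq (cancel q (d := 2 * ((q : ℤ) + 1)) (by convert h using 1; ring))).2.2.1 rfl
  · exact (base hq h).2.2.2.2.1 (by ring)
  · exact (base hq (cancel q (d := 2 * ((q : ℤ) + 1)) (by convert h using 1; ring))).2.2.1 rfl
  · exact (base hq (cancel q (d := 4) (cancel q (d := (q : ℤ) * 4) (by convert h using 1; ring)))).2.1 rfl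

theorem diff (hq : 1 < q) {i j : ℕ} (hi : i < 3) (hj : j < 3)
    (h : (((q ^ 3 + 1 : ℕ) : ℤ)) ∣ 2 * (q : ℤ) ^ i - 2 * (q : ℤ) ^ j) : i = j := by
  have h' : (((q ^ 3 + 1 : ℕ) : ℤ)) ∣ -(2 * (q : ℤ) ^ i - 2 * (q : ℤ) ^ j) := Dvd.dvd.neg_right h
  interval_cases i <;> interval_cases j <;> first | rfl | exfalso
  · exact (base hq h').2.2.2.1 (by ring)
  · exact (base hq h').2.2.2.2.2 (by ring)
  · exact (base hq h).2.2.2.1 (by ring)
  · exact (base hq (cancel q (d := 2 * ((q : ℤ) - 1)) (by convert h' using 1; ring))).2.2.2.1 rfl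
  · exact (base hq h).2.2.2.2.2 (by ring)
  · exact (base hq (cancel q (d := 2 * ((q : ℤ) - 1)) (by convert h using 1; ring))).2.2.2.1 rfl

end Exponents

set_option maxHeartbeats 3200000 in
/-- The centraliser of a generator of the twisted torus. -/
theorem exists_torus (hO : T7.StOk) {F : Type*} [Field F] [Fintype F] {K : Type} [Field K] [Fintype K] {q P r : ℕ}
    (hKinj : Function.Injective (sTorus (F := K) hO))
    (hker : ∀ (L : Type) [Field L] [Fintype L] (k : Fin T7.rank → Lˣ), torusHom T7 L k = 1 → k ^ 2 = 1)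
    (hq2 : 1 < q) (hr : r.Prime) (hr2 : r ≠ 2) (hrW : r.Coprime (Nat.card (T7.WP hV)))
    (hrA : r ∣ q ^ 4 - q ^ 2 + 1) (hrq : ¬ r ∣ q ^ 3 + 1) (hP : (q ^ 4 - q ^ 2 + 1) * (q ^ 3 + 1) = P) (hP0 : P ≠ 0)
    (ι : F →+* K) (σ : K →+* K) (hσ : ∀ t, σ t = t ^ q) (hfix : ∀ t : K, σ t = t ↔ t ∈ Set.range ι)
    {w0 : Equiv.Perm (Fin T7.n)} (htw : Twelve w0) {x y : GL T7.I K} (hxG : x ∈ T7.datum.group K)
    (hmN : y ∈ T7.datum.monomialSubgroup K) (hmm : T7.Mono y (T7.refP hV top * w0)⁻¹)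
    (hxy : mapGL T7 σ x * x⁻¹ = y) {E : ℕ} (hE : Nat.card Kˣ = E)
    (hsol : ∀ N : Matrix (Fin T7.rank) (Fin T7.rank) ℤ,
      cartanZ T7 * mat T7 hV (T7.refP hV top * w0) = N * cartanZ T7 →
      IsAddCyclic (sol E (N - (q : ℤ) • 1)) ∧ Nat.card (sol E (N - (q : ℤ) • 1)) = P)
    (hζex : r ∣ E) (hνex : q ^ 3 + 1 ∣ E)
    (hz : ∀ f : Kˣ, f ^ (2 * P) = 1 → ∃ g : Kˣ, g ^ 2 = f) :
    ∃ H : Subgroup ↥(T7.datum.group F), IsCyclic ↥H ∧
      Nat.card ↥H * Nat.card (torusHom T7 F).ker = P ∧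
      Subgroup.centralizer (H : Set ↥(T7.datum.group F)) = H := by
  classical
  have hT := hO.valid
  have hC := hO.comm
  have : Fact r.Prime := ⟨hr⟩
  set v := T7.refP hV top * w0 with hvdef0
  have hv : v ∈ T7.WP hT := htw.mem'
  obtain ⟨ζ, hζ⟩ := exists_prime_orderOf_dvd_card' (G := Kˣ) r (hE ▸ hζex)
  obtain ⟨ν, hν⟩ : ∃ ν : Kˣ, orderOf ν = q ^ 3 + 1 := by
    obtain ⟨g, hg⟩ : ∃ g : Kˣ, ∀ x, x ∈ Subgroup.zpowers g := IsCyclic.exists_generator
    have hgo : orderOf g = E := by rw [orderOf_eq_card_of_forall_mem_zpowers hg, hE]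
    refine ⟨g ^ (orderOf g / (q ^ 3 + 1)), orderOf_pow_orderOf_div ?_ (hgo ▸ hνex)⟩
    rw [hgo, ← hE]; exact Nat.card_pos.ne'
  have hσu : ∀ f : Fin T7.rank → Kˣ, (fun i => Units.map (σ : K →* K) (f i)) = f ^ q := fun f =>
    funext fun i => Units.ext (by simp [hσ])
  have hmap : ∀ f : Fin T7.rank → Kˣ, mapGL T7 σ (torusHom T7 K f) = torusHom T7 K f ^ q := fun f => by
    rw [map_torus, hσu, map_pow]
  have hσι : σ.comp ι = ι := RingHom.ext fun c => (hfix _).2 ⟨c, rfl⟩
  have hσιG : ∀ g : GL T7.I F, mapGL T7 σ (mapGL T7 ι g) = mapGL T7 ι g := fun g =>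
    Units.ext (Matrix.ext fun i j => (hfix _).2 ⟨(g : Matrix T7.I T7.I F) i j, rfl⟩)
  -- the action on the coroots
  obtain ⟨N, hN, hNpol⟩ := exists_coweight hT hv
  let Nf : ℕ → ℕ → ℤ := fun i j => if h : i < T7.rank ∧ j < T7.rank then N ⟨i, h.1⟩ ⟨j, h.2⟩ else 0
  have hNf : ∀ i j : Fin T7.rank, Nf i j = N i j := fun i j => by simp [Nf]
  let Θ : (Fin T7.rank → Kˣ) →* (Fin T7.rank → Kˣ) := powMat T7.rank Nf
  have hΘ : ∀ f, torusHom T7 K (Θ f) * y = y * torusHom T7 K f := by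
    intro f
    rw [eq_comm, mono_rel hT hmN hmm]
    intro t
    rw [tCh_powMat hT hv hN Nf hNf f (v⁻¹ t), ← Equiv.Perm.mul_apply, mul_inv_cancel,
      Equiv.Perm.one_apply]
  let S : Subgroup (Fin T7.rank → Kˣ) := Θ.eqLocus (powMonoidHom q)
  have hmemS : ∀ f, f ∈ S ↔ Θ f = f ^ q := fun f => Iff.rfl
  obtain ⟨hScyc, hScard⟩ : IsCyclic S ∧ Nat.card S = P := by
    obtain ⟨h1, h2⟩ := hsol N hN
    rw [← hE] at h1 h2
    set E := Nat.card Kˣ
    let ψ : Kˣ ≃* Multiplicative (ZMod E) :=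
      (zmodCyclicMulEquiv (G := Kˣ) inferInstance).symm
    let ψ' : (Fin T7.rank → Kˣ) ≃* Multiplicative (Fin T7.rank → ZMod E) :=
      { toFun := fun f => Multiplicative.ofAdd fun i => Multiplicative.toAdd (ψ (f i))
        invFun := fun g i => ψ.symm (Multiplicative.ofAdd (Multiplicative.toAdd g i))
        left_inv := fun f => funext fun i => by simp
        right_inv := fun g => by simp
        map_mul' := fun f g => by simp only [Pi.mul_apply, map_mul, toAdd_mul]; rfl }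
    have hmem : ∀ f, f ∈ S ↔ Multiplicative.toAdd (ψ' f) ∈ sol E (N - (q : ℤ) • 1) := by
      intro f
      rw [mem_sol, hmemS]
      have e : ∀ j, Multiplicative.toAdd (ψ (Θ f j)) =
          (Multiplicative.toAdd (ψ' f) ᵥ* N.map (Int.castRingHom (ZMod E))) j := by
        intro j
        show Multiplicative.toAdd (ψ (∏ i : Fin T7.rank, f i ^ Nf i j)) = _
        rw [map_prod, toAdd_prod]
        simp only [Matrix.vecMul, dotProduct]
        refine Finset.sum_congr rfl fun i _ => ?_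
        rw [map_zpow, toAdd_zpow, zsmul_eq_mul, hNf, mul_comm]
        rfl
      have e2 : ∀ j, Multiplicative.toAdd (ψ ((f ^ q) j)) = (q : ZMod E) * Multiplicative.toAdd (ψ' f) j := by
        intro j
        rw [Pi.pow_apply, map_pow, toAdd_pow, nsmul_eq_mul]
        rfl
      have e3 : (N - (q : ℤ) • 1).map (Int.castRingHom (ZMod E)) =
          N.map (Int.castRingHom (ZMod E)) - (q : ZMod E) • 1 := by
        ext i j
        simp only [Matrix.map_apply, Matrix.sub_apply, Matrix.smul_apply, smul_eq_mul, map_sub, map_mul,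
          map_natCast]
        by_cases hij : i = j <;> simp [Matrix.one_apply, hij]
      rw [e3, Matrix.vecMul_sub, Matrix.vecMul_smul, Matrix.vecMul_one, sub_eq_zero, funext_iff, funext_iff]
      refine forall_congr' fun j => ?_
      rw [← e j, Pi.smul_apply, smul_eq_mul, ← e2 j]
      exact ((Multiplicative.toAdd.injective.comp ψ.injective).eq_iff).symm
    let eS : S ≃* Multiplicative (sol E (N - (q : ℤ) • 1)) :=
      { toFun := fun f => Multiplicative.ofAdd ⟨Multiplicative.toAdd (ψ' f), (hmem f).1 f.2⟩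
        invFun := fun g => ⟨ψ'.symm (Multiplicative.ofAdd (Multiplicative.toAdd g).1), (hmem _).2 (by
          rw [MulEquiv.apply_symm_apply, toAdd_ofAdd]; exact (Multiplicative.toAdd g).2)⟩
        left_inv := fun f => Subtype.ext (by simp)
        right_inv := fun g => by
          refine Multiplicative.toAdd.injective (Subtype.ext ?_)
          simp
        map_mul' := fun f g => by
          refine Multiplicative.toAdd.injective (Subtype.ext ?_)
          simp }
    exact ⟨eS.isCyclic.2 inferInstance, by rw [Nat.card_congr (eS.toEquiv.trans Multiplicative.toAdd), h2]⟩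
  have hSP : ∀ f ∈ S, f ^ P = 1 := fun f hf => by
    have h1 := pow_card_eq_one' (G := S) (x := ⟨f, hf⟩)
    rw [hScard] at h1
    exact congrArg Subtype.val h1
  -- lifts to the presented group
  obtain ⟨X, hX⟩ := stProj_surjective (F := K) hO ⟨x, hxG⟩
  replace hX : hO.hom K X = x := congrArg Subtype.val hX
  set Y := stMap T7 σ X * X⁻¹ with hYdef
  have hY : hO.hom K Y = y := by rw [hYdef, map_mul, map_inv, hom_stMap hO, hX, hxy]
  have hlift : ∀ f : Fin T7.rank → Kˣ, f ^ (2 * P) = 1 → Y * sTorus hO f = sTorus hO (Θ f) * Y := by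
    intro f hf
    choose g hg using fun i => hz (f i) (congrFun hf i)
    obtain rfl : f = g ^ (2 : ℕ) := funext fun i => (hg i).symm
    set c := (sTorus hO (Θ g))⁻¹ * (Y * sTorus hO g * Y⁻¹) with hc
    obtain ⟨hcc, k, hk1, hk⟩ := mem_center_of_hom hO (g := c) (by
      rw [hc, map_mul, map_inv, map_mul, map_mul, map_inv, hom_sTorus, hom_sTorus, hY, ← hΘ g]
      group)
    have hcz : c ^ 2 = 1 := by rw [← hk, ← map_pow, hker K k hk1, map_one]
    have h1 : Y * sTorus hO g * Y⁻¹ = sTorus hO (Θ g) * c := by rw [hc]; group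
    have h2 := congrArg (· ^ 2) h1
    simp only [_root_.conj_pow] at h2
    rw [(Commute.mul_pow (Subgroup.mem_center_iff.1 hcc (sTorus hO (Θ g))) 2), hcz, mul_one, ← map_pow,
      ← map_pow, ← map_pow] at h2
    calc Y * sTorus hO (g ^ 2) = Y * sTorus hO (g ^ 2) * Y⁻¹ * Y := by group
      _ = sTorus hO (Θ (g ^ 2)) * Y := by rw [h2]
  have hSlift : ∀ f ∈ S, Y * sTorus hO f = sTorus hO (f ^ q) * Y := fun f hf => by
    rw [hlift f (by rw [mul_comm, pow_mul, hSP f hf, one_pow]), (hmemS f).1 hf]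
  have hσt : ∀ f : Fin T7.rank → Kˣ, stMap T7 σ (sTorus hO f) = sTorus hO (f ^ q) := fun f => by
    rw [stMap_sTorus hO, hσu]
  -- a generator and its parts
  obtain ⟨⟨f0, hf0S⟩, hgen⟩ := hScyc.exists_generator
  have hof0 : orderOf f0 = P := by
    rw [← hScard, ← orderOf_eq_card_of_forall_mem_zpowers hgen]
    exact orderOf_injective S.subtype S.subtype_injective ⟨f0, hf0S⟩
  have hgen' : ∀ f ∈ S, ∃ k : ℤ, f = f0 ^ k := fun f hf => by
    obtain ⟨k, hk⟩ := Subgroup.mem_zpowers_iff.1 (hgen ⟨f, hf⟩)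
    exact ⟨k, (congrArg Subtype.val hk).symm⟩
  have htzp : ∀ (f : Fin T7.rank → Kˣ) (k : ℤ) (s : ℕ), tCh T7 (f ^ k) s = tCh T7 f s ^ k := fun f k s => by
    simp only [tCh, ← Finset.prod_zpow]
    refine Finset.prod_congr rfl fun i _ => ?_
    rw [Pi.pow_apply, ← _root_.zpow_mul, ← _root_.zpow_mul, mul_comm]
  have hSrel : ∀ f ∈ S, ∀ t : Fin T7.n, tCh T7 f (v t).val = tCh T7 f t.val ^ q := fun f hf t => by
    rw [← tCh_powMat hT hv hN Nf hNf f t, show powMat T7.rank Nf f = f ^ q from (hmemS f).1 hf, tCh_pow]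
  -- the part of order r
  have hrP : r ∣ P := hrA.trans (hP ▸ dvd_mul_right _ _)
  set f1 := f0 ^ (P / r) with hf1
  have hof1 : orderOf f1 = r := by
    rw [hf1, ← hof0]
    refine orderOf_pow_orderOf_div ?_ (hof0 ▸ hrP)
    rw [hof0]; exact hP0
  have hf1S : f1 ∈ S := pow_mem hf0S _
  have hf1r : f1 ^ r = 1 := by rw [← hof1, pow_orderOf_eq_one]
  have hlog : ∀ j : Fin T7.rank, ∃ k : ℤ, ζ ^ k = tCh T7 f1 (T7.simple j.val) := by
    intro j
    have h1 : IsPrimitiveRoot ζ r := hζ ▸ IsPrimitiveRoot.orderOf ζ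
    refine Subgroup.mem_zpowers_iff.1 ?_
    rw [h1.zpowers_eq, mem_rootsOfUnity, ← tCh_pow, hf1r]
    simp [tCh]
  choose a ha using hlog
  have hval : ∀ t : Fin T7.n, tCh T7 f1 t.val = ζ ^ val T7 a t.val := by
    intro t
    rw [tCh_linear hT, val, dotProduct, zpow_sum_eq]
    exact Finset.prod_congr rfl fun j _ => by rw [_root_.zpow_mul, ha]
  have hnz : ∃ t : Fin T7.n, ζ ^ val T7 a t.val ≠ 1 := by
    by_contra hall
    push Not at hall
    have h1 : torusHom T7 K f1 = 1 := by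
      rw [show (1 : GL T7.I K) = torusHom T7 K 1 from (map_one _).symm]
      exact torus_congr hT fun t => by rw [hval, hall]; simp [tCh]
    have h2 : f1 = 1 := orderOf_eq_one_iff.1 (Nat.eq_one_of_dvd_coprimes ((Nat.coprime_primes hr Nat.prime_two).2 hr2)
      (orderOf_dvd_of_pow_eq_one hf1r) (orderOf_dvd_of_pow_eq_one (hker K _ h1)))
    rw [h2, orderOf_one] at hof1
    exact hr.ne_one hof1.symm
  have hvrel : ∀ t : Fin T7.n, ζ ^ val T7 a (v t).val = (ζ ^ val T7 a t.val) ^ q := fun t => by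
    rw [← hval, ← hval]; exact hSrel f1 hf1S t
  have hzs := fun s => htw.zero_set (s := s) hr hζ hrW hr2 a hrq hnz hvrel
  -- the part on the three roots
  obtain ⟨hb1, hb2, n01, n02, n12, -, hBeq⟩ := htw.cycle
  obtain ⟨c1, c2, c3⟩ := htw.twist_cycle
  have hMN : (mat T7 hV v)ᵀ * N = 1 := by
    have e := pr_mat hv
    rw [mul_assoc, hN, ← mul_assoc] at e
    have e2 := congrArg (· * Dm) e
    simp only [mul_assoc, cartan_Dm, Matrix.mul_smul, mul_one] at e2
    exact smul_right_injective _ (show (2 : ℤ) ≠ 0 by norm_num) e2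
  have hback : ∀ s : Fin T7.n, cv' (v s) ᵥ* N = cv' s := fun s => by
    rw [← show mat T7 hV v *ᵥ cv' s = cv' (v s) from mat_mulVec hV hv s, ← Matrix.vecMul_transpose,
      Matrix.vecMul_vecMul, hMN, Matrix.vecMul_one]
  set ex : Fin T7.rank → ℤ := cv' b0 + (q : ℤ) • cv' (w0 b0) + ((q : ℤ) ^ 2) • cv' (w0 (w0 b0)) with hex
  set f2 : Fin T7.rank → Kˣ := fun i => ν ^ ex i with hf2
  have hexN : ex ᵥ* N = (q : ℤ) • ex - ((q : ℤ) ^ 3 + 1) • cv' (w0 (w0 b0)) := by
    have e0 : cv' b0 ᵥ* N = -cv' (w0 (w0 b0)) := by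
      have h := hback (w0 (w0 b0))
      rw [c3, cv_negF, Matrix.neg_vecMul] at h
      rw [← h, neg_neg]
    have e1 : cv' (w0 b0) ᵥ* N = cv' b0 := by have h := hback b0; rwa [c1] at h
    have e2 : cv' (w0 (w0 b0)) ᵥ* N = cv' (w0 b0) := by have h := hback (w0 b0); rwa [c2] at h
    rw [hex, Matrix.add_vecMul, Matrix.add_vecMul, Matrix.smul_vecMul, Matrix.smul_vecMul, e0, e1, e2]
    module
  have hν0 : ν ^ ((q : ℤ) ^ 3 + 1) = 1 := by
    rw [show (q : ℤ) ^ 3 + 1 = ((q ^ 3 + 1 : ℕ) : ℤ) by push_cast; rfl, zpow_natCast, ← hν, pow_orderOf_eq_one]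
  have hf2S : f2 ∈ S := by
    rw [hmemS]
    funext j
    show ∏ i : Fin T7.rank, f2 i ^ Nf i j = (ν ^ ex j) ^ q
    rw [← zpow_natCast (ν ^ ex j), ← _root_.zpow_mul,
      Finset.prod_congr rfl fun i _ => show f2 i ^ Nf i j = ν ^ (ex i * N i j) by rw [hNf, hf2, _root_.zpow_mul],
      ← zpow_sum_eq, show (∑ i, ex i * N i j) = (ex ᵥ* N) j from rfl, hexN, Pi.sub_apply, Pi.smul_apply,
      Pi.smul_apply, smul_eq_mul, smul_eq_mul, _root_.zpow_sub, _root_.zpow_mul ν ((q : ℤ) ^ 3 + 1), hν0,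
      _root_.one_zpow, inv_one, mul_one, mul_comm]
  have hval2 : ∀ s : Fin T7.n, tCh T7 f2 s.val = ν ^ pr ex (cv' s) := fun s => by
    show ∏ i : Fin T7.rank, (ν ^ ex i) ^ T7.ca i s.val = _
    rw [Finset.prod_congr rfl fun i _ => (_root_.zpow_mul ν (ex i) (T7.ca i s.val)).symm, ← zpow_sum_eq]
    exact congrArg (fun e : ℤ => ν ^ e) (Finset.sum_congr rfl fun i _ => congrArg (ex i * ·) (ca_mulVec hT i s))
  have hbval : ∀ b ∈ B, ∃ i : ℕ, i < 3 ∧ pr ex (cv' b) = 2 * (q : ℤ) ^ i ∧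
      ∀ b' ∈ B, pr ex (cv' b') = 2 * (q : ℤ) ^ i → b' = b := by
    have e0 : pr ex (cv' b0) = 2 * (q : ℤ) ^ 0 := by
      rw [hex]; simp only [pr, add_dotProduct, smul_dotProduct]
      rw [← pr, ← pr, ← pr, B_form _ top_B _ top_B, B_form _ hb1 _ top_B, B_form _ hb2 _ top_B]
      simp [n01.symm, n02.symm]
    have e1 : pr ex (cv' (w0 b0)) = 2 * (q : ℤ) ^ 1 := by
      rw [hex]; simp only [pr, add_dotProduct, smul_dotProduct]
      rw [← pr, ← pr, ← pr, B_form _ top_B _ hb1, B_form _ hb1 _ hb1, B_form _ hb2 _ hb1]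
      simp [n01, n12.symm, mul_comm]
    have e2 : pr ex (cv' (w0 (w0 b0))) = 2 * (q : ℤ) ^ 2 := by
      rw [hex]; simp only [pr, add_dotProduct, smul_dotProduct]
      rw [← pr, ← pr, ← pr, B_form _ top_B _ hb2, B_form _ hb1 _ hb2, B_form _ hb2 _ hb2]
      simp [n02, n12, mul_comm]
    have hqz : (2 : ℤ) ≤ q := by exact_mod_cast hq2
    have hpow : ∀ i j : ℕ, i < j → 2 * (q : ℤ) ^ i ≠ 2 * (q : ℤ) ^ j := fun i j hij h => by
      have := pow_lt_pow_right₀ (show (1 : ℤ) < q by omega) hij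
      omega
    intro b hb
    rw [hBeq] at hb
    simp only [Finset.mem_insert, Finset.mem_singleton] at hb
    rcases hb with rfl | rfl | rfl
    · refine ⟨0, by norm_num, e0, fun b' hb' h => ?_⟩
      rw [hBeq] at hb'
      simp only [Finset.mem_insert, Finset.mem_singleton] at hb'
      rcases hb' with rfl | rfl | rfl
      · rfl
      · exact absurd (h.symm.trans e1) (hpow 0 1 (by norm_num))
      · exact absurd (h.symm.trans e2) (hpow 0 2 (by norm_num))
    · refine ⟨1, by norm_num, e1, fun b' hb' h => ?_⟩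
      rw [hBeq] at hb'
      simp only [Finset.mem_insert, Finset.mem_singleton] at hb'
      rcases hb' with rfl | rfl | rfl
      · exact absurd (e0.symm.trans h) (hpow 0 1 (by norm_num))
      · rfl
      · exact absurd (h.symm.trans e2) (hpow 1 2 (by norm_num))
    · refine ⟨2, by norm_num, e2, fun b' hb' h => ?_⟩
      rw [hBeq] at hb'
      simp only [Finset.mem_insert, Finset.mem_singleton] at hb'
      rcases hb' with rfl | rfl | rfl
      · exact absurd (e0.symm.trans h) (hpow 0 2 (by norm_num))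
      · exact absurd (e1.symm.trans h) (hpow 1 2 (by norm_num))
      · rfl
  have hzero_B : ∀ b ∈ B, ζ ^ val T7 a b.val = 1 := by
    let g := ζ ^ val T7 a b0.val
    have e1 : ζ ^ val T7 a (w0 b0).val = g ^ q := by rw [← c1]; exact hvrel b0
    have e2 : ζ ^ val T7 a (w0 (w0 b0)).val = g ^ (q * q) := by rw [← c2, hvrel, e1, pow_mul]
    have e3 : g⁻¹ = g ^ (q * q * q) := by
      rw [pow_mul g (q * q) q, ← e2, ← hvrel, c3, val_negF hT, _root_.zpow_neg]
    rw [inv_eq_iff_mul_eq_one, ← pow_succ', show q * q * q + 1 = q ^ 3 + 1 by ring] at e3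
    have hg : g = 1 := orderOf_eq_one_iff.1 (Nat.eq_one_of_dvd_coprimes ((hr.coprime_iff_not_dvd).2 hrq)
      (by
        have h1 : g ^ r = 1 := by
          show (ζ ^ _) ^ r = 1
          rw [← zpow_natCast, ← _root_.zpow_mul, mul_comm, _root_.zpow_mul, zpow_natCast, ← hζ,
            pow_orderOf_eq_one, _root_.one_zpow]
        exact orderOf_dvd_of_pow_eq_one h1) (orderOf_dvd_of_pow_eq_one e3))
    intro b hb
    rw [hBeq] at hb
    simp only [Finset.mem_insert, Finset.mem_singleton] at hb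
    rcases hb with rfl | rfl | rfl
    · exact hg
    · rw [e1, hg, one_pow]
    · rw [e2, hg, one_pow]
  have hne1 : ∀ b ∈ B, tCh T7 f2 b.val ≠ 1 := fun b hb h => by
    obtain ⟨i, hi, e, -⟩ := hbval b hb
    rw [hval2, ← orderOf_dvd_iff_zpow_eq_one, hν, e] at h
    exact (Exponents.single hq2 hi) h
  have hneg2 : ∀ s : Fin T7.n, tCh T7 f2 (T7.negF s).val = (tCh T7 f2 s.val)⁻¹ := fun s => by
    rw [hval2, hval2, cv_negF, pr_neg, _root_.zpow_neg]
  have hreg0 : ∀ t : Fin T7.n, tCh T7 f0 t.val ≠ 1 := by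
    intro t h
    have hone : ∀ f ∈ S, tCh T7 f t.val = 1 := fun f hf => by
      obtain ⟨k, rfl⟩ := hgen' f hf
      rw [htzp, h, _root_.one_zpow]
    rcases hzs t (by rw [← hval]; exact hone f1 hf1S) with hb | hb
    · exact hne1 t hb (hone f2 hf2S)
    · exact hne1 _ hb (by rw [hneg2, hone f2 hf2S, inv_one])
  have hstab : ∀ u ∈ T7.WP hT, (∀ t : Fin T7.n, tCh T7 f0 (u t).val = tCh T7 f0 t.val) → u = 1 := by
    intro u hu hfix0
    have hfix : ∀ f ∈ S, ∀ t : Fin T7.n, tCh T7 f (u t).val = tCh T7 f t.val := fun f hf t => by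
      obtain ⟨k, rfl⟩ := hgen' f hf
      rw [htzp, htzp, hfix0]
    refine htw.stab_trivial hζ hrW a hzs hu (fun t => by rw [← hval, ← hval]; exact hfix f1 hf1S t) fun b hb => ?_
    have h2 := hfix f2 hf2S b
    have hr1 : ζ ^ val T7 a b.val = 1 → ζ ^ val T7 a (u b).val = 1 := fun e => by
      rw [← hval, hfix f1 hf1S, hval]; exact e
    obtain ⟨i, hi, e, huniq⟩ := hbval b hb
    have hzb : ζ ^ val T7 a b.val = 1 := hzero_B b hb
    rcases hzs (u b) (hr1 hzb) with hub | hub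
    · obtain ⟨j, hj, e', -⟩ := hbval (u b) hub
      refine huniq _ hub ?_
      rw [hval2, hval2, e, e', ← div_eq_one, div_eq_mul_inv, ← _root_.zpow_sub, ← orderOf_dvd_iff_zpow_eq_one, hν] at h2
      rw [e', Exponents.diff hq2 hj hi h2]
    · obtain ⟨j, hj, e', -⟩ := hbval _ hub
      rw [cv_negF, pr_neg] at e'
      rw [hval2, hval2, e, show pr ex (cv' (u b)) = -(2 * (q : ℤ) ^ j) by omega, _root_.zpow_neg,
        inv_eq_iff_mul_eq_one, ← _root_.zpow_add, ← orderOf_dvd_iff_zpow_eq_one, hν] at h2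
      exact absurd h2 (Exponents.sum hq2 hj hi)
  have hcent : ∀ c ∈ T7.datum.group K, torusHom T7 K f0 * c = c * torusHom T7 K f0 →
      ∃ f, torusHom T7 K f = c := by
    intro c hc h
    obtain ⟨u1', hu1', m', hm'N, w', hw', u', hu', hmm', hce, hc1, hc2, hrel'⟩ := decompose hT hC hc h
    rw [unip_trivial hT hC hreg0 hu1' hc1, unip_trivial hT hC hreg0 hu' hc2, one_mul, mul_one] at hce
    have hw1 : w' = 1 := hstab w' hw' hrel'
    subst hw1
    rw [← MonoidHom.mem_range, torusHom_range hT, hce]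
    exact mem_diag_of_mono_one hT hm'N hmm'
  -- the element over the smaller field
  obtain ⟨sg, hsG, hsz⟩ : ∃ sg ∈ T7.datum.group F, mapGL T7 ι sg = hO.hom K (X⁻¹ * sTorus hO f0 * X) := by
    have hZfix : stMap T7 σ (X⁻¹ * sTorus hO f0 * X) = X⁻¹ * sTorus hO f0 * X := by
      have h1 := hSlift f0 hf0S
      rw [hYdef] at h1
      rw [map_mul, map_mul, map_inv, hσt]
      calc (stMap T7 σ X)⁻¹ * sTorus hO (f0 ^ q) * stMap T7 σ X
          = (stMap T7 σ X)⁻¹ * (sTorus hO (f0 ^ q) * (stMap T7 σ X * X⁻¹)) * X := by group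
        _ = X⁻¹ * sTorus hO f0 * X := by rw [← h1]; group
    obtain ⟨g, hg, hgz⟩ := fixed_mem hO σ ι hfix hKinj hZfix
    exact ⟨g, hg, hgz⟩
  let s : ↥(T7.datum.group F) := ⟨sg, hsG⟩
  have hf0 : torusHom T7 K f0 = x * mapGL T7 ι (s : GL T7.I F) * x⁻¹ := by
    show _ = x * mapGL T7 ι sg * x⁻¹
    rw [hsz, map_mul, map_mul, map_inv, hX, hom_sTorus]
    group
  -- the centraliser
  let C : Subgroup ↥(T7.datum.group F) := Subgroup.centralizer {s}
  let Φ : C →* GL T7.I K := (MulAut.conj x).toMonoidHom.comp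
    ((mapGL T7 ι).comp ((T7.datum.group F).subtype.comp C.subtype))
  have hΦinj : Function.Injective Φ := (MulAut.conj x).injective.comp
    ((mapGL_inj ι).comp ((Subgroup.subtype_injective _).comp (Subgroup.subtype_injective _)))
  have hrange : Φ.range = S.map (torusHom T7 K) := by
    ext c
    simp only [MonoidHom.mem_range, Subgroup.mem_map]
    constructor
    · rintro ⟨g, rfl⟩
      show ∃ f ∈ S, torusHom T7 K f = x * mapGL T7 ι ((g : ↥(T7.datum.group F)) : GL T7.I F) * x⁻¹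
      have hgs : mapGL T7 ι ((g : ↥(T7.datum.group F)) : GL T7.I F) * mapGL T7 ι (s : GL T7.I F) =
          mapGL T7 ι (s : GL T7.I F) * mapGL T7 ι ((g : ↥(T7.datum.group F)) : GL T7.I F) := by
        rw [← map_mul, ← map_mul, ← Subgroup.coe_mul, ← Subgroup.coe_mul,
          Subgroup.mem_centralizer_singleton_iff.1 g.2]
      obtain ⟨f, hf⟩ := hcent (x * mapGL T7 ι ((g : ↥(T7.datum.group F)) : GL T7.I F) * x⁻¹)
        (mul_mem (mul_mem hxG (map_group ι hT ⟨_, (g : ↥(T7.datum.group F)).2, rfl⟩)) (inv_mem hxG)) (by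
          rw [hf0]
          calc _ = x * (mapGL T7 ι (s : GL T7.I F) * mapGL T7 ι ((g : ↥(T7.datum.group F)) : GL T7.I F)) * x⁻¹ := by
                group
            _ = x * (mapGL T7 ι ((g : ↥(T7.datum.group F)) : GL T7.I F) * mapGL T7 ι (s : GL T7.I F)) * x⁻¹ := by
                rw [hgs]
            _ = _ := by group)
      obtain ⟨G0, hG0⟩ := stProj_surjective (F := F) hO (g : ↥(T7.datum.group F))
      replace hG0 : hO.hom F G0 = ((g : ↥(T7.datum.group F)) : GL T7.I F) := congrArg Subtype.val hG0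
      set Gd := stMap T7 ι G0 with hGd
      have hGfix : stMap T7 σ Gd = Gd := by rw [hGd, stMap_stMap, hσι]
      obtain ⟨hkc, k, hk1, hk⟩ := mem_center_of_hom hO (g := X * Gd * X⁻¹ * (sTorus hO f)⁻¹) (by
        rw [map_mul, map_mul, map_mul, map_inv, map_inv, hX, hom_sTorus, hGd, hom_stMap hO, hG0, hf]
        group)
      refine ⟨k * f, ?_, by rw [map_mul, hk1, one_mul, hf]⟩
      have he : sTorus hO (k * f) = X * Gd * X⁻¹ := by rw [map_mul, hk]; group
      have h1 : Y * sTorus hO (k * f) = sTorus hO ((k * f) ^ q) * Y := by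
        rw [← hσt, he, map_mul, map_mul, map_inv, hGfix, hYdef]
        group
      have h2 : torusHom T7 K (Θ (k * f) * ((k * f) ^ q)⁻¹) = 1 := by
        have e1 : hO.hom K Y * torusHom T7 K (k * f) = torusHom T7 K ((k * f) ^ q) * hO.hom K Y := by
          rw [← hom_sTorus hO, ← hom_sTorus hO, ← map_mul, ← map_mul, h1]
        rw [hY, ← hΘ] at e1
        rw [map_mul, map_inv, mul_right_cancel e1, mul_inv_cancel]
      have h3 := hker K _ h2
      rw [mul_pow, inv_pow, mul_inv_eq_one, ← map_pow, ← pow_mul, mul_comm q 2, pow_mul] at h3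
      have h4 := hlift (k * f) (by rw [pow_mul]; exact hSP _ h3)
      rw [h1] at h4
      exact hKinj (mul_right_cancel h4.symm)
    · rintro ⟨f, hf, rfl⟩
      set Z := X⁻¹ * sTorus hO f * X with hZ
      have hZfix : stMap T7 σ Z = Z := by
        have h1 := hSlift f hf
        rw [hYdef] at h1
        rw [hZ, map_mul, map_mul, map_inv, hσt]
        calc (stMap T7 σ X)⁻¹ * sTorus hO (f ^ q) * stMap T7 σ X
            = (stMap T7 σ X)⁻¹ * (sTorus hO (f ^ q) * (stMap T7 σ X * X⁻¹)) * X := by group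
          _ = X⁻¹ * sTorus hO f * X := by rw [← h1]; group
      obtain ⟨g, hg, hgz⟩ := fixed_mem hO σ ι hfix hKinj hZfix
      rw [hZ, map_mul, map_mul, map_inv, hX, hom_sTorus] at hgz
      refine ⟨⟨⟨g, hg⟩, Subgroup.mem_centralizer_singleton_iff.2 (Subtype.ext (mapGL_inj ι ?_))⟩, ?_⟩
      · have h3 : mapGL T7 ι (s : GL T7.I F) = x⁻¹ * torusHom T7 K f0 * x := by rw [hf0]; group
        simp only [Subgroup.coe_mul, map_mul, hgz, h3]
        calc _ = x⁻¹ * (torusHom T7 K f * torusHom T7 K f0) * x := by group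
          _ = x⁻¹ * (torusHom T7 K f0 * torusHom T7 K f) * x := by rw [← map_mul, mul_comm f, map_mul]
          _ = _ := by group
      · show x * mapGL T7 ι g * x⁻¹ = torusHom T7 K f
        rw [hgz]
        group
  let eC : C ≃* S.map (torusHom T7 K) := (MonoidHom.ofInjective hΦinj).trans (MulEquiv.subgroupCongr hrange)
  have : IsCyclic (S.map (torusHom T7 K)) :=
    isCyclic_of_surjective ((torusHom T7 K).subgroupMap S) ((torusHom T7 K).subgroupMap_surjective S)
  have hCcyc : IsCyclic C := eC.isCyclic.2 this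
  -- the order
  have hkerS : Nat.card ((torusHom T7 K).subgroupMap S).ker = Nat.card (torusHom T7 F).ker := by
    let up : (Fin T7.rank → Fˣ) → (Fin T7.rank → Kˣ) := fun k i => Units.map (ι : F →* K) (k i)
    have hup : ∀ k : (torusHom T7 F).ker, up k.1 ∈ S ∧ torusHom T7 K (up k.1) = 1 := by
      intro k
      have h1 : torusHom T7 K (up k.1) = 1 := by rw [← map_torus ι, k.2, map_one]
      have hq' : up k.1 ^ q = up k.1 := funext fun i => Units.ext (by
        have h2 := (hfix (ι (k.1 i : F))).2 ⟨_, rfl⟩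
        rw [hσ] at h2
        simpa [up] using h2)
      refine ⟨?_, h1⟩
      have hz1 := hker K _ h1
      have h2 := hlift (up k.1) (by rw [pow_mul, hz1, one_pow])
      have hcn : sTorus hO (up k.1) ∈ Subgroup.center (T7.datum.SteinbergGroup K) :=
        (mem_center_of_hom hO (by rw [hom_sTorus, h1])).1
      rw [Subgroup.mem_center_iff.1 hcn Y] at h2
      rw [hmemS, hq']
      exact hKinj (mul_right_cancel h2.symm)
    symm
    refine Nat.card_eq_of_bijective (fun k => ⟨⟨up k.1, (hup k).1⟩, MonoidHom.mem_ker.2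
      (Subtype.ext (hup k).2)⟩) ⟨fun k k' e => ?_, fun k => ?_⟩
    · refine Subtype.ext (funext fun i => Units.ext (ι.injective ?_))
      have := congrArg (fun z : ((torusHom T7 K).subgroupMap S).ker => ((z.1.1 i : Kˣ) : K)) e
      simpa [up] using this
    · obtain ⟨⟨k, hkS⟩, hk⟩ := k
      have h1 : torusHom T7 K k = 1 := congrArg Subtype.val (MonoidHom.mem_ker.1 hk)
      have h2 := hlift k (by rw [pow_mul, hker K _ h1, one_pow])
      rw [Subgroup.mem_center_iff.1 (mem_center_of_hom hO (by rw [hom_sTorus, h1])).1 Y] at h2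
      have h3 : k ^ q = k := ((hmemS k).1 hkS).symm.trans (hKinj (mul_right_cancel h2.symm))
      have h4 : ∀ i, ∃ d : Fˣ, Units.map (ι : F →* K) d = k i := fun i => by
        obtain ⟨t, ht⟩ := (hfix (k i : K)).mp (by
          rw [hσ, ← Units.val_pow_eq_pow_val, ← Pi.pow_apply, h3])
        exact ⟨Units.mk0 t fun h0 => (k i).ne_zero (by rw [← ht, h0, map_zero]), Units.ext ht⟩
      choose d hd using h4
      refine ⟨⟨d, MonoidHom.mem_ker.2 (mapGL_inj ι ?_)⟩, Subtype.ext (Subtype.ext (funext hd))⟩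
      rw [map_torus, map_one, funext hd, h1]
  refine ⟨C, hCcyc, ?_, le_antisymm ?_ ?_⟩
  · rw [Nat.card_congr eC.toEquiv, ← hkerS, ← hScard,
      Subgroup.card_eq_card_quotient_mul_card_subgroup ((torusHom T7 K).subgroupMap S).ker,
      Nat.card_congr (QuotientGroup.quotientKerEquivOfSurjective _
        ((torusHom T7 K).subgroupMap_surjective S)).toEquiv]
  · exact Subgroup.centralizer_le (by
      rintro g rfl
      exact Subgroup.mem_centralizer_singleton_iff.2 rfl)
  · intro g hg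
    refine Subgroup.mem_centralizer_iff.2 fun k hk => ?_
    letI := IsCyclic.commGroup (α := C)
    exact congrArg Subtype.val (mul_comm (⟨k, hk⟩ : C) ⟨g, hg⟩)

end CfsgLib.Chevalley.E7Torus
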