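import Cfsg.Agent.Lib.Chevalley.CoverTorus.Main

/-!
A monomial twist from an element of prime order.
-/

set_option autoImplicit false

namespace CfsgLib.Chevalley.E7Torus

open Tbl hiding X
open CoxeterTorus CoverTorus
open CfsgLib.KnownB.FieldAut (mapGL mapGL_inj map_torus map_group)
open scoped Matrix

variable {T : Tbl} (hO : T.StOk)
include hO

set_option maxHeartbeats 1600000 in
/-- The monomial element of a regular element of order `r`, and its permutation. -/
theorem exists_twist {F : Type*} [Field F] [Fintype F] {K : Type} [Field K] [Fintype K] {q r : ℕ}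
    (hr : r.Prime) (hrn : r ∣ Fintype.card K - 1) (hrW : r.Coprime (Nat.card (T.WP hO.valid)))
    (hrG : r ∣ Nat.card ↥(T.datum.group F)) (ι : F →+* K) (σ : K →+* K) (hσ : ∀ x, σ x = x ^ q)
    (hσι : σ.comp ι = ι) {pol : Polynomial ℤ}
    (hgood : ∀ (A : Type) [CommGroup A] (ζ : A), orderOf ζ = r → ∀ (a : Fin T.rank → ℤ),
      ∀ w ∈ T.WP hO.valid, (∃ s : Fin T.n, ζ ^ val T a s.val ≠ 1) →
      (∀ s : Fin T.n, ζ ^ val T a (w s).val = (ζ ^ val T a s.val) ^ q) →
      (mat T hO.valid w).charpoly = pol ∧ ∀ s : Fin T.n, ζ ^ val T a s.val ≠ 1) :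
    ∃ x ∈ T.datum.group K, ∃ m ∈ T.datum.monomialSubgroup K, ∃ v ∈ T.WP hO.valid,
      T.Mono m v⁻¹ ∧ mapGL T σ x * x⁻¹ = m ∧ (mat T hO.valid v).charpoly = pol := by
  classical
  have hT := hO.valid
  have hC := hO.comm
  have : Fact r.Prime := ⟨hr⟩
  have hσu : ∀ f : Fin T.rank → Kˣ, (fun i => Units.map (σ : K →* K) (f i)) = f ^ q := fun f =>
    funext fun i => Units.ext (by simp [hσ])
  have hmap : ∀ f : Fin T.rank → Kˣ, mapGL T σ (torusHom T K f) = torusHom T K f ^ q := fun f => by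
    rw [map_torus, hσu, map_pow]
  have hσιG : ∀ g : GL T.I F, mapGL T σ (mapGL T ι g) = mapGL T ι g := fun g =>
    Units.ext (Matrix.ext fun i j => DFunLike.congr_fun hσι ((g : Matrix T.I T.I F) i j))
  have hrK : r ∣ Nat.card Kˣ := by rwa [Nat.card_units, Nat.card_eq_fintype_card]
  obtain ⟨ζ, hζ⟩ := exists_prime_orderOf_dvd_card' (G := Kˣ) r hrK
  -- the element of order `r` and its diagonal conjugate
  obtain ⟨s, hs⟩ := exists_prime_orderOf_dvd_card' (G := ↥(T.datum.group F)) r hrG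
  have hsG : mapGL T ι (s : GL T.I F) ∈ T.datum.group K := map_group ι hT ⟨_, s.2, rfl⟩
  have hso : orderOf (⟨_, hsG⟩ : ↥(T.datum.group K)) = r ^ 1 := by
    rw [pow_one, ← Subgroup.orderOf_coe, orderOf_injective _ (mapGL_inj ι), Subgroup.orderOf_coe, hs]
  obtain ⟨x0, hx0⟩ := Twist.ToriGen.conj_into ((T.datum.diagonalSubgroup K).subgroupOf (T.datum.group K))
    (by rw [Nat.card_congr (Subgroup.subgroupOfEquivOfLe (diag_le_group hT)).toEquiv,
      card_flag_dvd hT hC hrn hrW]) hso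
  set x : GL T.I K := (x0 : GL T.I K)
  have hxG : x ∈ T.datum.group K := x0.2
  rw [Subgroup.mem_subgroupOf] at hx0
  obtain ⟨f0, hf0⟩ : ∃ f, torusHom T K f = x * mapGL T ι (s : GL T.I F) * x⁻¹ := by
    rw [← MonoidHom.mem_range, torusHom_range hT]
    exact hx0
  -- logarithms
  have hlog : ∀ j : Fin T.rank, ∃ k : ℤ, ζ ^ k = tCh T f0 (T.simple j.val) := by
    intro j
    have h1 : IsPrimitiveRoot ζ r := hζ ▸ IsPrimitiveRoot.orderOf ζ
    refine Subgroup.mem_zpowers_iff.1 ?_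
    rw [h1.zpowers_eq, mem_rootsOfUnity, ← tCh_pow]
    have h2 : torusHom T K (f0 ^ r) = 1 := by
      rw [map_pow, hf0, _root_.conj_pow, ← map_pow, ← hs, ← Subgroup.coe_pow, pow_orderOf_eq_one]
      simp
    have h3 := MonoidHom.mem_ker.1 ((torusHom_ker hT).le (MonoidHom.mem_ker.2 h2))
    exact congrFun h3 j
  choose a ha using hlog
  have hval : ∀ t : Fin T.n, tCh T f0 t.val = ζ ^ val T a t.val := by
    intro t
    rw [tCh_linear hT, val, dotProduct, zpow_sum_eq]
    exact Finset.prod_congr rfl fun j _ => by rw [_root_.zpow_mul, ha]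
  have hnz : ∃ t : Fin T.n, ζ ^ val T a t.val ≠ 1 := by
    by_contra hall
    push Not at hall
    have h1 : torusHom T K f0 = 1 := by
      rw [show (1 : GL T.I K) = torusHom T K 1 from (map_one _).symm]
      exact torus_congr hT fun t => by rw [hval, hall]; simp [tCh]
    rw [hf0, conj_eq_one_iff] at h1
    have h2 : s = 1 := Subtype.ext (mapGL_inj ι (by rw [h1, Subgroup.coe_one, map_one]))
    rw [h2, orderOf_one] at hs
    exact hr.ne_one hs.symm
  -- the action of the Frobenius map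
  set y := mapGL T σ x * x⁻¹ with hy
  have hyG : y ∈ T.datum.group K := mul_mem (map_group σ hT ⟨x, hxG, rfl⟩) (inv_mem hxG)
  have hrel0 : torusHom T K (f0 ^ q) * y = y * torusHom T K f0 := by
    rw [map_pow, ← hmap, hf0, map_mul, map_mul, map_inv, hσιG, hy]
    group
  obtain ⟨u1, hu1, m, hmN, w, hw, u, hu, hmm, hye, hcu1, hcu, hwrel⟩ := decompose hT hC hyG hrel0
  set v := w⁻¹ with hvdef
  have hv : v ∈ T.WP hT := inv_mem hw
  have hvrel : ∀ t : Fin T.n, ζ ^ val T a (v t).val = (ζ ^ val T a t.val) ^ q := by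
    intro t
    have h1 := hwrel (v t)
    rw [hvdef, ← Equiv.Perm.mul_apply, mul_inv_cancel, Equiv.Perm.one_apply] at h1
    rw [← hval, ← hval, ← h1]
    exact tCh_pow f0 q _
  obtain ⟨hpol, hreg⟩ := hgood Kˣ ζ hζ a v hv hnz hvrel
  have hreg0 : ∀ t : Fin T.n, tCh T f0 t.val ≠ 1 := fun t => by rw [hval]; exact hreg t
  have hregq : ∀ t : Fin T.n, tCh T (f0 ^ q) t.val ≠ 1 := by
    intro t
    rw [tCh_pow, hval, ← hvrel]
    exact hreg _
  have hym : y = m := by
    rw [hye, unip_trivial hT hC hregq hu1 hcu1, unip_trivial hT hC hreg0 hu hcu, one_mul, mul_one]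
  exact ⟨x, hxG, y, by rw [hym]; exact hmN, v, hv, by rw [hvdef, inv_inv, hym]; exact hmm, hy.symm, hpol⟩

end CfsgLib.Chevalley.E7Torus
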