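import Cfsg.Agent.Lib.Chevalley.E7Torus.Root
import Cfsg.Agent.Lib.Chevalley.E7Torus.Twist
import Cfsg.Agent.Lib.Chevalley.E7Torus.Torus
import Cfsg.Agent.Lib.Chevalley.E7Torus.Cyclic
import Cfsg.Agent.Lib.Chevalley.CoxeterTorus.Instances
import Cfsg.Agent.Lib.Chevalley.TablesSt

/-!
The twisted monomial element of E7, and the torus.
-/

set_option autoImplicit false
set_option maxRecDepth 20000

namespace CfsgLib.Chevalley.E7Torus

open Tbl hiding X
open CoxeterTorus CoverTorus SylowTorus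
open CfsgLib.KnownB.FieldAut (mapGL mapGL_inj map_torus map_group map_xU map_nw)
open CfsgLib.KnownA.SteinbergUniv
open Polynomial
open scoped Matrix

/-- The Steinberg data of E7. -/
theorem hO7 : T7.StOk := ⟨Data.E7.valid, Data.E7.chkComm, Data.E7.chkSorted, Data.E7.chkSplit⟩

/-- The Steinberg data of E6. -/
theorem hO6 : T6.StOk := ⟨Data.E6.valid, Data.E6.chkComm, Data.E6.chkSorted, Data.E6.chkSplit⟩

theorem pw_replicate {T : Tbl} (hT : T.Valid) (l : List (Fin T.rank)) (k : ℕ) :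
    T.pw hT (List.replicate k l).flatten = T.pw hT l ^ k := by
  induction k with
  | zero => rfl
  | succ k ih => rw [List.replicate_succ, List.flatten_cons, pw_append, ih, pow_succ']

/-- The lift of a normalised element of E6 with an eigenvalue of order twelve. -/
theorem twelve_lift {l : List (Fin T6.rank)} (h6 : T6.pw hV6 l ^ 6 = T6.pw hV6 E6.zw)
    (hc : (mat T6 hV6 (T6.pw hV6 l)).charpoly = cyclotomic 12 ℤ * cyclotomic 3 ℤ) :
    Twelve (T7.pw hV (l.map up)) where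
  mem := pw_mem hV _
  sixth := by
    rw [← pw_replicate, zw7, ← List.map_replicate, ← List.map_flatten]
    exact pw_congr (by rw [pw_replicate, h6])
  top_fix := top_fixed l
  kill x hx := aeval_low l (aeval_kill hV6 (pw_mem hV6 _) one_ne_zero (by rw [hc, pow_one])) hx
  charpoly := by rw [charpoly_lift, hc]

theorem exists_pow_of_pow_eq_one {G : Type*} [CommGroup G] [IsCyclic G] [Finite G] {u : G} {k : ℕ}
    (hk : k ∣ Nat.card G) (h : u ^ (Nat.card G / k) = 1) : ∃ a : G, a ^ k = u := by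
  obtain ⟨g, hg⟩ : ∃ g : G, ∀ x, x ∈ Subgroup.zpowers g := IsCyclic.exists_generator
  obtain ⟨m, rfl⟩ := Subgroup.mem_zpowers_iff.1 (hg u)
  rw [← zpow_natCast, ← _root_.zpow_mul, ← orderOf_dvd_iff_zpow_eq_one,
    orderOf_eq_card_of_forall_mem_zpowers hg] at h
  obtain ⟨c, hc⟩ : (k : ℤ) ∣ m := by
    refine Int.dvd_of_mul_dvd_mul_right (a := ((Nat.card G / k : ℕ) : ℤ)) ?_ ?_
    · exact Int.natCast_ne_zero.2 (Nat.div_pos (Nat.le_of_dvd Nat.card_pos hk)
        (Nat.pos_of_dvd_of_pos hk Nat.card_pos)).ne'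
    · rw [← Nat.cast_mul, Nat.mul_div_cancel' hk]
      exact h
  exact ⟨g ^ c, by rw [hc, ← zpow_natCast, ← _root_.zpow_mul, mul_comm]⟩

theorem sq_dvd_pow_sub_one (a : ℕ) (ha : 1 ≤ a) : (a - 1) * (a - 1) ∣ a ^ (a - 1) - 1 := by
  rw [← Int.natCast_dvd_natCast, Nat.cast_mul, Nat.cast_sub ha, Nat.cast_sub (Nat.one_le_pow _ _ ha), Nat.cast_pow,
    Nat.cast_one, ← geom_sum_mul]
  refine mul_dvd_mul ?_ dvd_rfl
  have h : (∑ i ∈ Finset.range (a - 1), (a : ℤ) ^ i) =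
      (∑ i ∈ Finset.range (a - 1), ((a : ℤ) ^ i - 1)) + ((a - 1 : ℕ) : ℤ) := by
    simp
  rw [h]
  refine dvd_add (Finset.dvd_sum fun i _ => sub_one_dvd_pow_sub_one _ i) ?_
  rw [Nat.cast_sub ha, Nat.cast_one]

theorem sTorus_injective7 (L : Type*) [Field L] [Fintype L] : Function.Injective (sTorus (F := L) hO7) :=
  sTorus_injective (F := L) hO7 Data.E8.valid Data.E8.chkComm embE7 leftE7

variable {F : Type*} [Field F] [Fintype F] {q : ℕ}

/-- The monomial element of E6, normalised, over `GF(q ^ 12)`. -/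
theorem exists_six {K : Type} [Field K] [Fintype K] (hq : 1 < q) {r : ℕ} (hr : r.Prime)
    (hrA : r ∣ q ^ 4 - q ^ 2 + 1) (hr12 : ¬ r ∣ 12) (hrK : r ∣ Fintype.card K - 1)
    (hrW : r.Coprime (Nat.card (T6.WP hV6))) (hrG : r ∣ Nat.card ↥(T6.datum.group F))
    (ι : F →+* K) (σ : K →+* K) (hσ : ∀ x, σ x = x ^ q) (hσι : σ.comp ι = ι) :
    ∃ l : List (Fin T6.rank), T6.pw hV6 l ^ 6 = T6.pw hV6 E6.zw ∧
      (mat T6 hV6 (T6.pw hV6 l)).charpoly = cyclotomic 12 ℤ * cyclotomic 3 ℤ ∧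
      ∃ x ∈ T6.datum.group K, ∃ c : Fin T6.rank → Kˣ,
        mapGL T6 σ x * x⁻¹ = T6.nw K l.reverse * torusHom T6 K c := by
  have : Fact r.Prime := ⟨hr⟩
  have hr2 : r ≠ 2 := by rintro rfl; exact hr12 (by norm_num)
  have hle : q ^ 2 ≤ q ^ 4 := Nat.pow_le_pow_right (by omega) (by norm_num)
  have hrA' : (q : ZMod r) ^ 4 - (q : ZMod r) ^ 2 + 1 = 0 := by
    have := (ZMod.natCast_eq_zero_iff _ _).2 hrA
    rwa [Nat.cast_add, Nat.cast_sub hle, Nat.cast_pow, Nat.cast_pow, Nat.cast_one] at this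
  have : NeZero ((12 : ℕ) : ZMod r) := ⟨fun h => hr12 ((ZMod.natCast_eq_zero_iff 12 r).1 h)⟩
  have hroot : IsPrimitiveRoot (q : ZMod r) 12 := by
    refine isRoot_cyclotomic_iff.1 ?_
    rw [← map_cyclotomic 12 (Int.castRingHom (ZMod r)), cyclotomic_twelve]
    simpa [IsRoot] using hrA'
  have hq6 : (q : ZMod r) ^ 6 = -1 := by linear_combination ((q : ZMod r) ^ 2 + 1) * hrA'
  obtain ⟨x, hx, m, hm, v, hv, hmm, hxy, hc⟩ := exists_twist hO6 hr hrK hrW hrG ι σ hσ hσι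
    (pol := cyclotomic 12 ℤ * cyclotomic 3 ℤ) fun A' _ ζ hζ a w hw hnz hrel => by
      have hc := eigen_dvd hV6 hζ hrW a hw hroot hr12 hnz hrel
      exact ⟨(E6.shape hw hc).1, E6.regular hζ hrW hr2 a hw hc hq6 hnz hrel⟩
  obtain ⟨-, g, hg, hgv⟩ := E6.shape hv (hc ▸ dvd_mul_right _ _)
  obtain ⟨lg, rfl⟩ := exists_pw hV6 hg
  obtain ⟨l, hl⟩ := exists_pw hV6 (mul_mem (mul_mem (inv_mem hg) hv) hg)
  refine ⟨l, ?_, ?_, ?_⟩
  · rw [hl, ← hgv]
    have := (SemiconjBy.pow_right (show SemiconjBy (T6.pw hV6 lg)⁻¹ v ((T6.pw hV6 lg)⁻¹ * v * T6.pw hV6 lg) by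
      simp [SemiconjBy, mul_assoc]) 6).eq
    rw [eq_comm, ← eq_mul_inv_iff_mul_eq, inv_inv] at this
    exact this
  · rw [hl, mat_mul hV6 (mul_mem (inv_mem hg) hv), mat_mul hV6 (inv_mem hg), Matrix.charpoly_mul_comm,
      ← mul_assoc, ← mat_mul hV6 hg, mul_inv_cancel, mat_one, one_mul, hc]
  · set n := T6.nw K lg with hn
    have hnσ : mapGL T6 σ n⁻¹ = n⁻¹ := by rw [map_inv, hn, map_nw σ hV6]
    have hnN : n⁻¹ * m * n ∈ T6.datum.monomialSubgroup K :=
      mul_mem (mul_mem (inv_mem (nw_mem hV6 lg)) hm) (nw_mem hV6 lg)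
    have hd : (T6.nw K l.reverse)⁻¹ * (n⁻¹ * m * n) ∈ T6.datum.diagonalSubgroup K := by
      refine mem_diag_of_mono_one hV6 (mul_mem (inv_mem (nw_mem hV6 _)) hnN) ?_
      have h1 := (mono_nw (F := K) hV6 l.reverse).inv.mul
        (((mono_nw (F := K) hV6 lg).inv.mul hmm).mul (mono_nw (F := K) hV6 lg))
      rw [pw_reverse, inv_inv, hl] at h1
      convert h1 using 1
      group
    rw [← torusHom_range hV6] at hd
    obtain ⟨c, hc'⟩ := hd
    refine ⟨n⁻¹ * x, mul_mem (inv_mem (monomial_le_group hV6 (nw_mem hV6 lg))) hx, c, ?_⟩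
    rw [map_mul, hnσ, hc', mul_inv_cancel_left, _root_.mul_inv_rev, inv_inv, ← hxy]
    group

/-- The image in E7. -/
theorem exists_seven {K : Type} [Field K] [Fintype K] (σ : K →+* K) {l : List (Fin T6.rank)} {x : GL T6.I K}
    (hx : x ∈ T6.datum.group K) {c : Fin T6.rank → Kˣ}
    (hxy : mapGL T6 σ x * x⁻¹ = T6.nw K l.reverse * torusHom T6 K c) :
    ∃ x' ∈ T7.datum.group K, ∃ m ∈ T7.datum.monomialSubgroup K,
      T7.Mono m (T7.pw hV (l.map up))⁻¹ ∧ mapGL T7 σ x' * x'⁻¹ = m := by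
  obtain ⟨ψ, hψ⟩ := exists_embHom (F := K) hV6 hV Data.E7.chkComm embE6
  obtain ⟨hrow, -, -⟩ := emb_facts embE6
  have hgen : ∀ p : Fin T6.datum.nroots × K,
      PresentedGroup.of (rels := T6.datum.steinbergRels K) p = T6.sX K p.1.val p.2 := by
    intro p
    rw [Tbl.sX, Cfsg.Lie.ChevalleyDatum.stGen, Cfsg.Lie.ChevalleyDatum.stX, dif_pos p.1.2]
    rfl
  have hψG : ∀ g, ψ g ∈ T7.datum.group K := by
    intro g
    have : (T7.datum.group K).comap ψ = ⊤ := by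
      rw [eq_top_iff, ← PresentedGroup.closure_range_of, Subgroup.closure_le]
      rintro _ ⟨p, rfl⟩
      rw [SetLike.mem_coe, Subgroup.mem_comap, hgen, hψ _ p.1.2]
      exact xU_mem_group hV (hrow _ p.1.2).1 _
    exact Subgroup.mem_comap.1 (this ▸ Subgroup.mem_top g : g ∈ (T7.datum.group K).comap ψ)
  have hψσ : ∀ g, mapGL T7 σ (ψ g) = ψ (stMap T6 σ g) := by
    intro g
    refine DFunLike.congr_fun (show (mapGL T7 σ).comp ψ = ψ.comp (stMap T6 σ) from PresentedGroup.ext fun p => ?_) g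
    rw [hgen]
    show mapGL T7 σ (ψ (T6.sX K p.1.val p.2)) = ψ (stMap T6 σ (T6.sX K p.1.val p.2))
    rw [stMap_sX σ p.1.2, hψ _ p.1.2, hψ _ p.1.2, map_xU σ hV (hrow _ p.1.2).1]
  have hψN : ∀ (i : Fin T6.rank) (t : K), ψ (T6.sN K (T6.simple i.val) t) = T7.nU K (T7.simple (up i).val) t := by
    intro i t
    have hi := simple_lt hV6 i.2
    rw [Tbl.sN, Tbl.nU, map_mul, map_mul, hψ _ hi, hψ _ (neg_lt' hi), (hrow _ hi).2.1, io_simple]
  have hψw : ∀ l : List (Fin T6.rank), ψ (T6.snw K l) = T7.nw K (l.map up) := by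
    intro l
    induction l with
    | nil => exact map_one _
    | cons i l ih =>
      show ψ (T6.sN K (T6.simple i.val) 1 * T6.snw K l) = _
      rw [map_mul, ih, hψN]
      rfl
  have hψT : ∀ f : Fin T6.rank → Kˣ, ψ (sTorus hO6 f) ∈ T7.datum.diagonalSubgroup K := by
    intro f
    suffices f ∈ (T7.datum.diagonalSubgroup K).comap (ψ.comp (sTorus hO6)) from this
    refine Subgroup.pi_mem_of_mulSingle_mem f fun i => ?_
    show ψ (sTorus hO6 (Pi.mulSingle i (f i))) ∈ T7.datum.diagonalSubgroup K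
    rw [sTorus_single, Tbl.sH, map_mul, hψN, hψN, diagonalSubgroup_eq hV]
    exact Subgroup.subset_closure ⟨_, simple_lt hV (up i).2, f i, hU_eq hV (simple_lt hV (up i).2) (f i)⟩
  obtain ⟨X, hX⟩ := stProj_surjective (F := K) hO6 ⟨x, hx⟩
  replace hX : hO6.hom K X = x := congrArg Subtype.val hX
  have hsnw : hO6.hom K (T6.snw K l.reverse) = T6.nw K l.reverse := by
    rw [snw, map_list_prod, List.map_map, nw]
    exact congrArg List.prod (List.map_congr_left fun i _ => hom_sN hO6 (simple_lt hV6 i.2) 1)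
  set Y := stMap T6 σ X * X⁻¹ with hY
  obtain ⟨-, k, -, hk⟩ := mem_center_of_hom hO6 (g := (T6.snw K l.reverse * sTorus hO6 c)⁻¹ * Y) (by
    rw [hY, map_mul, map_inv, map_mul, map_mul, map_inv, hom_stMap hO6, hX, hxy, hsnw, hom_sTorus]
    exact inv_mul_cancel _)
  rw [eq_comm, inv_mul_eq_iff_eq_mul, mul_assoc, ← map_mul] at hk
  refine ⟨ψ X, hψG X, ψ Y, ?_, ?_, by rw [hY, map_mul, map_inv, hψσ]⟩
  · rw [hk, map_mul, hψw]
    exact mul_mem (nw_mem hV _) (diag_le_N hV (hψT _))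
  · rw [hk, map_mul, hψw]
    have h1 := (mono_nw (F := K) hV (l.reverse.map up)).mul (mono_diag hV (hψT (c * k)))
    rw [mul_one, List.map_reverse, pw_reverse] at h1
    rwa [List.map_reverse]

end CfsgLib.Chevalley.E7Torus
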