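import Cfsg.Agent.Lib.Chevalley.E7Torus.Cycle

/-!
The twisted torus of E7: eigenvectors modulo primes, roots trivial on the `Φ₁₂` part, stabilisers.
-/

set_option autoImplicit false
set_option maxRecDepth 20000

namespace CfsgLib.Chevalley.E7Torus

open Tbl hiding X
open CoxeterTorus SylowTorus CoverTorus
open Polynomial
open scoped Matrix

theorem cv_inj {s t : Fin T7.n} (h : cv' s = cv' t) : s = t := by
  obtain ⟨u, hu, k, rfl⟩ := exists_simple_image hV t
  have e : mat T7 hV u⁻¹ *ᵥ cv' s = mat T7 hV u⁻¹ *ᵥ cv' (u (T7.simpF hV k)) := by rw [h]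
  rw [show mat T7 hV u⁻¹ *ᵥ cv' s = cv' (u⁻¹ s) from mat_mulVec hV (inv_mem hu) s,
    show mat T7 hV u⁻¹ *ᵥ cv' (u (T7.simpF hV k)) = cv' (u⁻¹ (u (T7.simpF hV k))) from
      mat_mulVec hV (inv_mem hu) _, ← Equiv.Perm.mul_apply u⁻¹ u, inv_mul_cancel, Equiv.Perm.one_apply] at e
  have e2 : u⁻¹ s = T7.simpF hV k := eq_simpF_of_co hV fun c hc => by
    have e3 := congrFun e ⟨c, hc⟩
    simp only [cv', simpF, co_simple hV k.2 hc] at e3
    simpa [Fin.ext_iff, eq_comm] using e3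
  rw [← e2, ← Equiv.Perm.mul_apply, mul_inv_cancel, Equiv.Perm.one_apply]

theorem pr_add (x y z : Fin T7.rank → ℤ) : pr x (y + z) = pr x y + pr x z := by
  simp [pr, Matrix.mulVec_add]

theorem pr_neg (x y : Fin T7.rank → ℤ) : pr x (-y) = -pr x y := by
  simp [pr, Matrix.mulVec_neg]

variable {v : Equiv.Perm (Fin T7.n)} (hv : Twelve v)
include hv

/-- A vector fixed by the cube up to sign in coordinates along the three roots. -/
theorem Twelve.coords {t : Fin T7.rank → ℤ} (ht : Zm *ᵥ t = t) :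
    t = (Lf b0 ⬝ᵥ t) • cv' b0 + (Lf (v b0) ⬝ᵥ t) • cv' (v b0) + (Lf (v (v b0)) ⬝ᵥ t) • cv' (v (v b0)) := by
  obtain ⟨-, -, n01, n02, n12, -, hB⟩ := hv.cycle
  conv_lhs => rw [proj ht, hB, Finset.sum_insert (by simp [n01, n02]), Finset.sum_pair n12, ← add_assoc]

/-- The eigenspace modulo a divisor of `q ^ 3 + 1`. -/
theorem Twelve.eigen_small {N : Matrix (Fin T7.rank) (Fin T7.rank) ℤ}
    (hN : cartanZ T7 * mat T7 hV (T7.refP hV top * v) = N * cartanZ T7) {p : ℕ} [Fact p.Prime] {q : ℕ}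
    (hA : (q : ZMod p) ^ 4 - (q : ZMod p) ^ 2 + 1 ≠ 0) :
    Nat.card (Module.End.eigenspace (Matrix.toLin' (N.map (Int.castRingHom (ZMod p)))ᵀ) (q : ZMod p)) ≤ p := by
  classical
  obtain ⟨h1, h2, n01, n02, n12, -, hB⟩ := hv.cycle
  obtain ⟨c1, c2, c3⟩ := hv.twist_cycle
  set M' := mat T7 hV (T7.refP hV top * v) with hM'
  have hMN : M'ᵀ * N = 1 := by
    have e := pr_mat hv.mem'
    rw [mul_assoc, hN, ← mul_assoc] at e
    have e2 := congrArg (· * Dm) e
    simp only [mul_assoc, cartan_Dm, Matrix.mul_smul, mul_one] at e2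
    exact smul_right_injective _ (show (2 : ℤ) ≠ 0 by norm_num) e2
  have hNM : N * M'ᵀ = 1 := mul_eq_one_comm.1 hMN
  let f := Int.castRingHom (ZMod p)
  set Mb := M'.map f with hMb
  set Nb := N.map f with hNb
  set Qb := Mb ^ 4 - Mb ^ 2 + 1 with hQb
  let φ : (Fin T7.rank → ZMod p) →ₗ[ZMod p] ZMod p :=
    { toFun := fun z => (fun j => f (Lf b0 j)) ⬝ᵥ (Qb *ᵥ z)
      map_add' := fun x y => by rw [Matrix.mulVec_add, dotProduct_add]
      map_smul' := fun c x => by rw [Matrix.mulVec_smul, dotProduct_smul]; rfl }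
  refine le_trans (Nat.card_le_card_of_injective
    (φ.comp (Module.End.eigenspace (Matrix.toLin' Nbᵀ) (q : ZMod p)).subtype) ?_) (Nat.card_zmod p).le
  rw [injective_iff_map_eq_zero]
  rintro ⟨z, hz⟩ h0
  rw [Module.End.mem_eigenspace_iff, Matrix.toLin'_apply, Matrix.mulVec_transpose] at hz
  replace h0 : (fun j => f (Lf b0 j)) ⬝ᵥ (Qb *ᵥ z) = 0 := h0
  refine Subtype.ext (show z = 0 from ?_)
  -- the inverse relation
  have hqz : (q : ZMod p) • (Mb *ᵥ z) = z := by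
    have e : Nb * Mbᵀ = 1 := by
      rw [hNb, hMb, ← Matrix.transpose_map, ← Matrix.map_mul, hNM, Matrix.map_one _ (map_zero _) (map_one _)]
    conv_rhs => rw [← Matrix.vecMul_one z, ← e, ← Matrix.vecMul_vecMul, hz, Matrix.smul_vecMul,
      Matrix.vecMul_transpose]
  have hqk : ∀ k : ℕ, (q : ZMod p) ^ k • (Mb ^ k *ᵥ z) = z := by
    intro k
    induction k with
    | zero => simp
    | succ k ih =>
      rw [pow_succ, mul_smul, pow_succ Mb, ← Matrix.mulVec_mulVec, ← Matrix.mulVec_smul (Mb ^ k), hqz, ih]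
  have hAz : (q : ZMod p) ^ 4 • (Qb *ᵥ z) = ((q : ZMod p) ^ 4 - (q : ZMod p) ^ 2 + 1) • z := by
    have e2 := hqk 2
    have e4 := hqk 4
    rw [hQb, Matrix.add_mulVec, Matrix.sub_mulVec, Matrix.one_mulVec, smul_add, smul_sub, e4,
      show (q : ZMod p) ^ 4 • (Mb ^ 2 *ᵥ z) = (q : ZMod p) ^ 2 • z by
        rw [show (4 : ℕ) = 2 + 2 from rfl, pow_add, mul_smul, e2],
      add_smul, sub_smul, one_smul]
    abel
  -- the integral image
  let y : Fin T7.rank → ℤ := fun j => ((z j).val : ℤ)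
  have hy : (fun j => f (y j)) = z := funext fun j => by simp [y, f, ZMod.natCast_zmod_val]
  set t := (M' ^ 4 - M' ^ 2 + 1) *ᵥ y with ht
  have hbar : ∀ (M : Matrix (Fin T7.rank) (Fin T7.rank) ℤ) (x : Fin T7.rank → ℤ),
      (fun j => f ((M *ᵥ x) j)) = M.map f *ᵥ fun j => f (x j) := fun M x =>
    funext fun j => RingHom.map_mulVec f M x j
  have htz : (fun j => f (t j)) = Qb *ᵥ z := by
    rw [ht, hbar, hy, hQb, hMb]
    congr 1
    rw [← RingHom.mapMatrix_apply, ← RingHom.mapMatrix_apply]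
    simp only [map_add, map_sub, map_pow, map_one]
  have hcube : M' ^ 3 *ᵥ t = -t := by
    have hch : aeval M' (cyclotomic 12 ℤ * (X ^ 3 + 1)) = 0 := by
      rw [← hv.twist_charpoly]; exact Matrix.aeval_self_charpoly _
    rw [mul_comm, cyclotomic_twelve] at hch
    simp only [map_mul, map_add, map_sub, map_pow, aeval_X, map_one] at hch
    refine eq_neg_of_add_eq_zero_left ?_
    rw [ht, show M' ^ 3 *ᵥ ((M' ^ 4 - M' ^ 2 + 1) *ᵥ y) + (M' ^ 4 - M' ^ 2 + 1) *ᵥ y =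
      ((M' ^ 3 + 1) * (M' ^ 4 - M' ^ 2 + 1)) *ᵥ y by
        rw [← Matrix.mulVec_mulVec, Matrix.add_mulVec (M' ^ 3) 1, Matrix.one_mulVec], hch, Matrix.zero_mulVec]
  have hc := hv.coords (hv.cube_fixed hcube)
  set a0 := Lf b0 ⬝ᵥ t with ha0
  set a1 := Lf (v b0) ⬝ᵥ t
  set a2 := Lf (v (v b0)) ⬝ᵥ t
  have hm : M' *ᵥ t = a0 • cv' (v b0) + a1 • cv' (v (v b0)) + (-a2) • cv' b0 := by
    conv_lhs => rw [hc]
    simp only [Matrix.mulVec_add, Matrix.mulVec_smul, hM']
    rw [show mat T7 hV (T7.refP hV top * v) *ᵥ cv' b0 = cv' (v b0) by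
        rw [← c1]; exact mat_mulVec hV hv.mem' _,
      show mat T7 hV (T7.refP hV top * v) *ᵥ cv' (v b0) = cv' (v (v b0)) by
        rw [← c2]; exact mat_mulVec hV hv.mem' _,
      show mat T7 hV (T7.refP hV top * v) *ᵥ cv' (v (v b0)) = -cv' b0 by
        rw [← cv_negF, ← c3]; exact mat_mulVec hV hv.mem' _, smul_neg, neg_smul]
  have hqt : (q : ZMod p) • (fun j => f ((M' *ᵥ t) j)) = fun j => f (t j) := by
    rw [hbar, htz, ← hMb, Matrix.mulVec_mulVec,
      show Mb * Qb = Qb * Mb by rw [hQb]; noncomm_ring, ← Matrix.mulVec_mulVec, ← Matrix.mulVec_smul, hqz]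
  have hdot : ∀ (l x : Fin T7.rank → ℤ), (fun j => f (l j)) ⬝ᵥ (fun j => f (x j)) = f (l ⬝ᵥ x) :=
    fun l x => (RingHom.map_dotProduct f l x).symm
  have hL : ∀ r, (q : ZMod p) * f (Lf r ⬝ᵥ (M' *ᵥ t)) = f (Lf r ⬝ᵥ t) := by
    intro r
    rw [← hdot, ← hdot, ← hqt, dotProduct_smul, smul_eq_mul]
  have z0 : f a0 = 0 := by
    rw [ha0, ← hdot, htz]; exact h0
  have e1 := hL (v b0)
  have e2 := hL (v (v b0))
  simp only [hm, dotProduct_add, dotProduct_smul, smul_eq_mul, Lf_dual _ h1 _ h1, Lf_dual _ h1 _ h2,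
    Lf_dual _ h1 _ top_B, Lf_dual _ h2 _ h1, Lf_dual _ h2 _ h2, Lf_dual _ h2 _ top_B, ↓reduceIte, if_neg n12,
    if_neg n12.symm, if_neg n01.symm, if_neg n02.symm, mul_one, mul_zero, add_zero, zero_add] at e1 e2
  rw [z0, mul_zero] at e1
  rw [show f a1 = 0 from e1.symm, mul_zero] at e2
  have hQz : Qb *ᵥ z = 0 := by
    rw [← htz, hc]
    funext j
    simp [show (a0 : ZMod p) = 0 from z0, show (a1 : ZMod p) = 0 from e1.symm, show (a2 : ZMod p) = 0 from e2.symm]
  rw [hQz, smul_zero] at hAz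
  exact (smul_eq_zero.1 hAz.symm).resolve_left hA

/-- The roots trivial on the `Φ₁₂` part. -/
theorem Twelve.zero_set {A : Type*} [CommGroup A] {ζ : A} {r : ℕ} (hr : r.Prime) (hζ : orderOf ζ = r)
    (hW : r.Coprime (Nat.card (T7.WP hV))) (hr2 : r ≠ 2) (a : Fin T7.rank → ℤ) {q : ℕ}
    (hrq : ¬ r ∣ q ^ 3 + 1) (hnz : ∃ s : Fin T7.n, ζ ^ val T7 a s.val ≠ 1)
    (hrel : ∀ s : Fin T7.n, ζ ^ val T7 a ((T7.refP hV top * v) s).val = (ζ ^ val T7 a s.val) ^ q)
    {s : Fin T7.n} (hs : ζ ^ val T7 a s.val = 1) : s ∈ B ∨ T7.negF s ∈ B := by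
  classical
  obtain ⟨h1, h2, n01, n02, n12, -, hB⟩ := hv.cycle
  obtain ⟨c1, c2, c3⟩ := hv.twist_cycle
  set v' := T7.refP hV top * v with hv'
  set M := mat T7 hV v
  have hroot : ∀ {g : A}, g ^ r = 1 → ∀ k : ℕ, ¬ r ∣ k → g ^ k = 1 → g = 1 := fun {g} hg k hk hgk =>
    orderOf_eq_one_iff.1 (Nat.eq_one_of_dvd_coprimes ((hr.coprime_iff_not_dvd).2 hk)
      (orderOf_dvd_of_pow_eq_one hg) (orderOf_dvd_of_pow_eq_one hgk))
  have hpr : ∀ m : ℤ, (ζ ^ m) ^ r = 1 := fun m => by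
    rw [← zpow_natCast, ← _root_.zpow_mul, mul_comm, _root_.zpow_mul, zpow_natCast, ← hζ, pow_orderOf_eq_one,
      _root_.one_zpow]
  -- the character on vectors
  let χ : (Fin T7.rank → ℤ) → A := fun x => ζ ^ (a ⬝ᵥ x)
  have hχ : ∀ x y, χ (x + y) = χ x * χ y := fun x y => by simp [χ, dotProduct_add, _root_.zpow_add]
  have hχn : ∀ x, χ (-x) = (χ x)⁻¹ := fun x => by simp [χ, dotProduct_neg, _root_.zpow_neg]
  have hχs : ∀ (k : ℤ) x, χ (k • x) = χ x ^ k := fun k x => by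
    show ζ ^ (a ⬝ᵥ (k • x)) = (ζ ^ (a ⬝ᵥ x)) ^ k
    rw [dotProduct_smul, smul_eq_mul, mul_comm, _root_.zpow_mul]
  have hb0 : χ (cv' b0) = 1 := by
    have e1 : χ (cv' (v b0)) = χ (cv' b0) ^ q := by rw [← c1]; exact hrel b0
    have e2 : χ (cv' (v (v b0))) = χ (cv' (v b0)) ^ q := by rw [← c2]; exact hrel (v b0)
    have e3 : χ (cv' (T7.negF b0)) = χ (cv' (v (v b0))) ^ q := by rw [← c3]; exact hrel (v (v b0))
    rw [cv_negF, hχn, e2, e1, inv_eq_iff_mul_eq_one, ← pow_mul, ← pow_mul, ← pow_succ',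
      show q * (q * q) + 1 = q ^ 3 + 1 by ring] at e3
    exact hroot (hpr _) _ hrq e3
  have hb : ∀ b ∈ B, χ (cv' b) = 1 := by
    intro b hbB
    have e1 : χ (cv' (v b0)) = 1 := by
      rw [← c1, show χ (cv' (v' b0)) = χ (cv' b0) ^ q from hrel b0, hb0, one_pow]
    rw [hB] at hbB
    simp only [Finset.mem_insert, Finset.mem_singleton] at hbB
    rcases hbB with rfl | rfl | rfl
    · exact hb0
    · exact e1
    · rw [← c2, show χ (cv' (v' (v b0))) = χ (cv' (v b0)) ^ q from hrel (v b0), e1, one_pow]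
  have hplus : ∀ x, χ (Zm *ᵥ x) = (χ x)⁻¹ := by
    intro x
    rw [eq_inv_iff_mul_eq_one, ← hχ]
    have hfix : Zm *ᵥ (Zm *ᵥ x + x) = Zm *ᵥ x + x := by
      rw [Matrix.mulVec_add, Matrix.mulVec_mulVec, Zm_sq, Matrix.one_mulVec, add_comm]
    rw [proj hfix]
    refine Finset.induction_on' B (by simp [χ]) fun b s' hbB _ hns ih => ?_
    rw [Finset.sum_insert hns, hχ, hχs, hb b hbB, _root_.one_zpow, one_mul, ih]
  by_contra hnot
  obtain ⟨μ, m1, m2⟩ := exists_average hV hζ hW a (stab T7 hV ζ a) (fun u hu => hu.1) fun u hu => hu.2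
  have hzero : ∀ β : Fin T7.n, ζ ^ val T7 a β.val = 1 → val T7 μ β.val = 0 := by
    intro β hβ
    obtain ⟨u, hu, k, rfl⟩ := exists_simple_image hV β
    have hk' : T7.refP hV k ∈ T7.WP hV := SylowTorus.refP_mem hV k
    have hρ : u * T7.refP hV k * u⁻¹ ∈ stab T7 hV ζ a := by
      refine ⟨mul_mem (mul_mem hu hk') (inv_mem hu), fun t => ?_⟩
      rw [Equiv.Perm.mul_apply, Equiv.Perm.mul_apply, val_perm hV hu, val_refP hV,
        _root_.zpow_sub, mul_comm (T7.ca _ _), _root_.zpow_mul]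
      have hk : ζ ^ (a ᵥ* mat T7 hV u) k = 1 := by
        rw [← val_simple hV (a ᵥ* mat T7 hV u) k,
          show T7.simple k.val = (T7.simpF hV k).val from rfl, ← val_perm hV hu]
        exact hβ
      rw [hk, _root_.one_zpow, inv_one, mul_one, ← val_perm hV hu, ← Equiv.Perm.mul_apply, mul_inv_cancel,
        Equiv.Perm.one_apply]
    have h3 := m1 _ hρ (u (T7.simpF hV k))
    rw [Equiv.Perm.mul_apply, Equiv.Perm.mul_apply, ← Equiv.Perm.mul_apply u⁻¹, inv_mul_cancel,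
      Equiv.Perm.one_apply, refP_simpF, WP_negF hV hu, val_negF hV] at h3
    omega
  have horb : ∀ i : ℕ, ζ ^ val T7 a ((v' ^ i) s).val = 1 := by
    intro i
    induction i with
    | zero => exact hs
    | succ i ih => rw [pow_succ', Equiv.Perm.mul_apply, hrel, ih, one_pow]
  -- the orbit of the negated part
  set x := cv' s - Zm *ᵥ cv' s with hx
  have hxn : Zm *ᵥ x = -x := by
    rw [hx, Matrix.mulVec_sub, Matrix.mulVec_mulVec (cv' s) Zm Zm, Zm_sq, Matrix.one_mulVec, neg_sub]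
  have hx0 : x ≠ 0 := by
    intro h0
    have e : cv' (T7.pw hV zw7 s) = cv' s := by
      rw [← Zm_cv]; exact (sub_eq_zero.1 h0).symm
    refine hnot (fixed_roots s ?_)
    rw [← pw_wapp hV]
    exact congrArg Fin.val (cv_inj e)
  have hμ : ∀ i : ℕ, μ ⬝ᵥ (M ^ i *ᵥ x) = 0 := by
    intro i
    have hcz : ∀ y, Zm *ᵥ (mat T7 hV v' ^ i *ᵥ y) = mat T7 hV v' ^ i *ᵥ (Zm *ᵥ y) := by
      intro y
      induction i with
      | zero => simp
      | succ i ih => rw [pow_succ', ← Matrix.mulVec_mulVec, hv.twist_comm, ih, Matrix.mulVec_mulVec,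
          ← Matrix.mulVec_mulVec, Matrix.mulVec_mulVec]
    rw [← (hv.twist_neg_pow hxn i).1, hx, Matrix.mulVec_sub, ← hcz, ← mat_pow hV hv.mem',
      show mat T7 hV (v' ^ i) *ᵥ cv' s = cv' ((v' ^ i) s) from mat_mulVec hV (pow_mem hv.mem' i) s,
      dotProduct_sub]
    have e1 : val T7 μ ((v' ^ i) s).val = 0 := hzero _ (horb i)
    have e2 : ζ ^ val T7 a (T7.pw hV zw7 ((v' ^ i) s)).val = 1 := by
      show χ (cv' (T7.pw hV zw7 ((v' ^ i) s))) = 1
      rw [← Zm_cv, hplus, show χ (cv' ((v' ^ i) s)) = 1 from horb i, inv_one]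
    have e3 : val T7 μ (T7.pw hV zw7 ((v' ^ i) s)).val = 0 := hzero _ e2
    rw [Zm_cv]
    show val T7 μ _ - val T7 μ _ = 0
    rw [e1, e3, sub_zero]
  let J : Fin 4 → Fin T7.rank := fun k => ⟨k.val + 1, by have := k.2; show k.val + 1 < 7; omega⟩
  have hout : ∀ j : Fin T7.rank, (j.val = 0 ∨ j.val = 5 ∨ j.val = 6) ∨ ∃ k, J k = j := by
    intro j
    have hj : j.val < 7 := j.2
    by_cases h : j.val = 0 ∨ j.val = 5 ∨ j.val = 6
    · exact Or.inl h
    · exact Or.inr ⟨⟨j.val - 1, by omega⟩, Fin.ext (by show j.val - 1 + 1 = j.val; omega)⟩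
  have hJinj : Function.Injective J := fun i j h => Fin.ext (by
    have := congrArg Fin.val h
    simpa [J] using this)
  have hsum : ∀ (R : Type) [AddCommMonoid R] (g : Fin T7.rank → R),
      (∀ j : Fin T7.rank, j.val = 0 ∨ j.val = 5 ∨ j.val = 6 → g j = 0) → ∑ j, g j = ∑ k, g (J k) := by
    intro R _ g hg
    rw [← Finset.sum_image (f := g) (hJinj.injOn (s := ((Finset.univ : Finset (Fin 4)) : Set (Fin 4))))]
    refine (Finset.sum_subset (Finset.subset_univ _) fun j _ hj => ?_).symm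
    rcases hout j with h | ⟨k, hk⟩
    · exact hg j h
    · exact absurd (Finset.mem_image.2 ⟨k, Finset.mem_univ _, hk⟩) hj
  set row : Fin (12 : ℕ).totient → Fin 4 → ℚ := fun i k => (((M ^ (i : ℕ) *ᵥ x) (J k) : ℤ) : ℚ)
  have hli : LinearIndependent ℚ row := by
    have hk : x ᵥ* aeval Mᵀ (cyclotomic 12 ℤ) = 0 := by
      have := hv.neg_kill hxn
      rw [cyclotomic_twelve] at this ⊢
      simp only [map_add, map_sub, map_pow, aeval_X, map_one] at this ⊢
      rw [← Matrix.transpose_pow, ← Matrix.transpose_pow, ← Matrix.transpose_one, ← Matrix.transpose_sub,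
        ← Matrix.transpose_add, Matrix.vecMul_transpose, this]
    have h0 := linearIndependent_rows Mᵀ (by norm_num) hx0 hk
    rw [Fintype.linearIndependent_iff] at h0 ⊢
    intro g hg
    refine h0 g (funext fun j => ?_)
    simp only [Finset.sum_apply, Pi.smul_apply, Pi.zero_apply, smul_eq_mul]
    rcases hout j with hj | ⟨k, rfl⟩
    · refine Finset.sum_eq_zero fun i _ => ?_
      rw [← Matrix.transpose_pow, Matrix.vecMul_transpose,
        neg_support (hv.twist_neg_pow hxn i).2 hj, Int.cast_zero, mul_zero]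
    · have := congrFun hg k
      simp only [Finset.sum_apply, Pi.smul_apply, Pi.zero_apply, smul_eq_mul, row] at this
      simpa [← Matrix.transpose_pow, Matrix.vecMul_transpose] using this
  have hμJ : ∀ k, μ (J k) = 0 := by
    have hcard : Fintype.card (Fin (12 : ℕ).totient) = Module.finrank ℚ (Fin 4 → ℚ) := by
      rw [Module.finrank_fintype_fun_eq_card, Fintype.card_fin, Fintype.card_fin]
      decide
    have hspan := hli.span_eq_top_of_card_eq_finrank' hcard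
    let g : (Fin 4 → ℚ) →ₗ[ℚ] ℚ :=
      { toFun := fun y => ∑ k, (μ (J k) : ℚ) * y k
        map_add' := fun y y' => by simp [mul_add, Finset.sum_add_distrib]
        map_smul' := fun c y => by simp [Finset.mul_sum, mul_left_comm] }
    have hg : Submodule.span ℚ (Set.range row) ≤ LinearMap.ker g := by
      rw [Submodule.span_le]
      rintro _ ⟨i, rfl⟩
      show ∑ k, (μ (J k) : ℚ) * row i k = 0
      have e := hμ i
      rw [dotProduct, hsum ℤ _ fun j hj => by rw [neg_support (hv.twist_neg_pow hxn i).2 hj, mul_zero]] at e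
      simp only [row]
      exact_mod_cast e
    intro k
    rw [hspan] at hg
    have hk := hg (Submodule.mem_top (x := Pi.single k (1 : ℚ)))
    rw [LinearMap.mem_ker] at hk
    simp [g, Pi.single_apply] at hk
    exact_mod_cast hk
  obtain ⟨t, ht⟩ := hnz
  refine ht ?_
  set w := cv' t - Zm *ᵥ cv' t with hw
  have hwn : Zm *ᵥ w = -w := by
    rw [hw, Matrix.mulVec_sub, Matrix.mulVec_mulVec (cv' t) Zm Zm, Zm_sq, Matrix.one_mulVec, neg_sub]
  have hw1 : χ w = 1 := by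
    show ζ ^ (a ⬝ᵥ w) = 1
    rw [dotProduct, zpow_sum_eq]
    refine Finset.prod_eq_one fun j _ => ?_
    rcases hout j with hj | ⟨k, rfl⟩
    · rw [neg_support hwn hj, mul_zero, zpow_zero]
    · rw [_root_.zpow_mul, show ζ ^ a (J k) = 1 by
        rw [← val_simple hV a (J k)]
        exact m2 (T7.simpF hV (J k)) (by
          show val T7 μ (T7.simple (J k).val) = 0
          rw [val_simple hV, hμJ]), _root_.one_zpow]
  rw [hw, sub_eq_add_neg, hχ, hχn, hplus, inv_inv, ← sq] at hw1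
  exact hroot (hpr _) 2 (fun h => hr2 ((Nat.prime_dvd_prime_iff_eq hr Nat.prime_two).1 h)) hw1

/-- An element fixing the three roots and the `Φ₁₂` part is trivial. -/
theorem Twelve.stab_trivial {A : Type*} [CommGroup A] {ζ : A} {r : ℕ} (hζ : orderOf ζ = r)
    (hW : r.Coprime (Nat.card (T7.WP hV))) (a : Fin T7.rank → ℤ)
    (hzs : ∀ s : Fin T7.n, ζ ^ val T7 a s.val = 1 → s ∈ B ∨ T7.negF s ∈ B)
    {u : Equiv.Perm (Fin T7.n)} (hu : u ∈ T7.WP hV)
    (hfix : ∀ s : Fin T7.n, ζ ^ val T7 a (u s).val = ζ ^ val T7 a s.val)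
    (hub : ∀ b ∈ B, u b = b) : u = 1 := by
  obtain ⟨h1, h2, n01, n02, n12, -, hB⟩ := hv.cycle
  obtain ⟨μ, m1, m2⟩ := exists_average hV hζ hW a (stab T7 hV ζ a) (fun u hu => hu.1) fun u hu => hu.2
  let P : Fin T7.n → ℤ := fun s => pr (cv' b0) (cv' s) + pr (cv' (v b0)) (cv' s) + pr (cv' (v (v b0))) (cv' s)
  let μ' : Fin T7.rank → ℤ := (7 : ℤ) • μ + (cv' b0 + cv' (v b0) + cv' (v (v b0))) ᵥ* cartanZ T7
  have hval : ∀ s : Fin T7.n, val T7 μ' s.val = 7 * val T7 μ s.val + P s := by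
    intro s
    show μ' ⬝ᵥ cv' s = 7 * (μ ⬝ᵥ cv' s) + P s
    simp only [μ', P, pr, add_dotProduct, smul_dotProduct, smul_eq_mul, ← Matrix.dotProduct_mulVec]
  have hP : ∀ b ∈ B, P b = 2 := by
    intro b hb
    simp only [P, B_form _ top_B _ hb, B_form _ h1 _ hb, B_form _ h2 _ hb]
    rw [hB] at hb
    simp only [Finset.mem_insert, Finset.mem_singleton] at hb
    rcases hb with rfl | rfl | rfl <;> simp [n01, n02, n12, n01.symm, n02.symm, n12.symm]
  refine eq_one_of_regular hV hu μ' (fun s h => ?_) fun s => ?_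
  · rw [hval] at h
    by_cases hz : val T7 μ s.val = 0
    · rw [hz] at h
      rcases hzs s (m2 s hz) with hb | hb
      · rw [hP s hb] at h; omega
      · have e : P (T7.negF s) = -P s := by
          simp only [P, cv_negF, pr_neg]; ring
        rw [hP _ hb] at e
        omega
    · have := abs_le.1 (form_bound b0 (v b0) (v (v b0)) top_B h1 h2 s)
      simp only [P] at h
      omega
  · have e : ∀ b ∈ B, pr (cv' b) (cv' (u s)) = pr (cv' b) (cv' s) := fun b hb => by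
      conv_lhs => rw [← hub b hb]
      rw [← show mat T7 hV u *ᵥ cv' b = cv' (u b) from mat_mulVec hV hu b,
        ← show mat T7 hV u *ᵥ cv' s = cv' (u s) from mat_mulVec hV hu s, pr_mulVec hu]
    rw [hval, hval, m1 u ⟨hu, hfix⟩ s]
    simp only [P, e b0 top_B, e (v b0) h1, e (v (v b0)) h2]

end CfsgLib.Chevalley.E7Torus
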