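import Cfsg.Agent.Lib.Chevalley.E7Torus.Data
import Cfsg.Agent.Lib.Chevalley.Basic
import Cfsg.Agent.Lib.KnownB.FieldAut.Fixed

/-!
Three cycled copies of `SL₂` in E7: an element twisting a monomial element by a reflection.
-/

set_option autoImplicit false
set_option maxRecDepth 20000

namespace CfsgLib.Chevalley.E7Torus

open Tbl hiding X
open CfsgLib.KnownB.FieldAut (mapGL map_xU)
open scoped Matrix

variable {K : Type*} [Field K]

/-- The lower unitriangular element. -/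
def lx (t : K) : Matrix.SpecialLinearGroup (Fin 2) K := ⟨!![1, 0; t, 1], by simp [Matrix.det_fin_two]⟩

theorem val_triple (x y z : K) :
    ((SL2.ux x * lx y * SL2.ux z : Matrix.SpecialLinearGroup (Fin 2) K) : Matrix (Fin 2) (Fin 2) K) =
      !![1 + x * y, (1 + x * y) * z + x; y, y * z + 1] := by
  show !![1, x; 0, 1] * !![1, 0; y, 1] * !![1, z; 0, 1] = _
  ext i j; fin_cases i <;> fin_cases j <;> simp [Matrix.mul_apply]

/-- Lang's equation for a twisted Frobenius map of `SL₂` and the Weyl element. -/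
theorem lang_sl2 (τ : K →+* K) {Q : ℕ} (hτ : ∀ x, τ x = x ^ Q) (κ a b e : Kˣ) (hQ : 1 < Q)
    (ha : a ^ (Q * Q) = -κ * a) (hb : κ ^ Q * b ^ (Q * Q) = -b) (he : e ^ (Q * Q) = e) (he' : e ^ Q ≠ e) :
    ∃ x y z : K, (SL2.ux ((κ : K) * τ x) * lx (((κ⁻¹ : Kˣ) : K) * τ y) * SL2.ux ((κ : K) * τ z) :
      Matrix.SpecialLinearGroup (Fin 2) K) = SL2.wn * (SL2.ux x * lx y * SL2.ux z) := by
  -- the determinant
  let D : Kˣ → K := fun b => (κ : K) * a * τ b - b * τ a
  have haK : τ (τ (a : K)) = -(κ : K) * a := by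
    rw [hτ, hτ, ← pow_mul]; exact_mod_cast congrArg Units.val ha
  have key : ∀ b : Kˣ, κ ^ Q * b ^ (Q * Q) = -b → τ (D b) = D b := by
    intro b hb
    have hbK : τ (κ : K) * τ (τ (b : K)) = -(b : K) := by
      rw [hτ, hτ, hτ, ← pow_mul]; exact_mod_cast congrArg Units.val hb
    simp only [D, map_sub, map_mul]
    linear_combination τ (a : K) * hbK - τ (b : K) * haK
  obtain ⟨b, hb, hD⟩ : ∃ b : Kˣ, κ ^ Q * b ^ (Q * Q) = -b ∧ D b ≠ 0 := by
    by_cases h : D b = 0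
    · refine ⟨b * e, by rw [mul_pow, he, ← mul_assoc, hb, neg_mul], ?_⟩
      simp only [D] at h ⊢
      intro h2
      have h3 : (b : K) * τ a * (τ (e : K) - e) = 0 := by
        rw [Units.val_mul, map_mul] at h2
        linear_combination h2 - τ (e : K) * h
      rcases mul_eq_zero.1 h3 with h4 | h4
      · exact mul_ne_zero b.ne_zero (by rw [hτ]; exact pow_ne_zero _ a.ne_zero) h4
      · exact he' (Units.ext (by rw [Units.val_pow_eq_pow_val, ← hτ]; exact sub_eq_zero.1 h4))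
    · exact ⟨b, hb, h⟩
  set d := D b with hd
  have hdτ : τ d = d := key b hb
  have hbK : τ (κ : K) * τ (τ (b : K)) = -(b : K) := by
    rw [hτ, hτ, hτ, ← pow_mul]; exact_mod_cast congrArg Units.val hb
  -- the entries
  set B := (b : K) / d with hB
  set c := τ (a : K) with hc
  set dd := (κ : K) * τ B with hdd
  have hc0 : c ≠ 0 := by rw [hc, hτ]; exact pow_ne_zero _ a.ne_zero
  have hdet : (a : K) * dd - B * c = 1 := by
    rw [hdd, hB, map_div₀, hdτ]
    field_simp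
    simp only [hd, D]
    ring
  have hτd : τ dd = -B := by
    rw [hdd, map_mul, hB, map_div₀, map_div₀, hdτ, hdτ, neg_div', ← mul_div_assoc, hbK]
  have hτc : τ c = -(κ : K) * a := haK
  refine ⟨((a : K) - 1) / c, c, (dd - 1) / c, Subtype.ext ?_⟩
  rw [SL2.val_wn_mul, val_triple, val_triple]
  have hκ : (κ : K) ≠ 0 := κ.ne_zero
  have ha0 : (a : K) ≠ 0 := a.ne_zero
  have hτc0 : τ c ≠ 0 := by rw [hτc]; exact mul_ne_zero (neg_ne_zero.2 hκ) ha0
  ext i j
  fin_cases i <;> fin_cases j <;>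
    simp only [Fin.mk_zero, Fin.mk_one, Matrix.of_apply, Matrix.cons_val', Matrix.cons_val_zero, Matrix.cons_val_one,
      Matrix.cons_val_fin_one, Fin.zero_eta, Fin.isValue, map_div₀, map_sub, map_one, hτc, hτd, ← hc,
      Units.val_inv_eq_inv_val] <;>
    field_simp
  · ring
  · linear_combination (-1 : K) * hdet
  · ring
  · linear_combination hdet

/-- The root subgroups of a root and its negative. -/
noncomputable def pair (K : Type*) [Field K] (s : Fin T7.n) : Subgroup (GL T7.I K) :=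
  T7.rootGen K fun r => r = s.val ∨ r = T7.neg s.val

theorem xU_mem_pair (s : Fin T7.n) (t : K) : T7.xU K s.val t ∈ pair K s :=
  Subgroup.subset_closure ⟨s.val, s.2, Or.inl rfl, t, rfl⟩

theorem xU_neg_mem_pair (s : Fin T7.n) (t : K) : T7.xU K (T7.neg s.val) t ∈ pair K s :=
  Subgroup.subset_closure ⟨T7.neg s.val, neg_lt' s.2, Or.inr rfl, t, rfl⟩

theorem pair_commute {s t : Fin T7.n} (hs : s ∈ B) (ht : t ∈ B) (hne : s ≠ t) {g h : GL T7.I K}
    (hg : g ∈ pair K s) (hh : h ∈ pair K t) : g * h = h * g := by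
  obtain ⟨e1, e2, e3, e4⟩ := B_comm s hs t ht hne
  have hsn : t.val ≠ T7.neg s.val := by
    intro e
    have h1 := co_top_B t ht
    rw [e, co_neg hV s.2 top.2, co_top_B s hs] at h1
    omega
  have hv : t.val ≠ s.val := fun e => hne (Fin.ext e.symm)
  have key : ∀ r r' : ℕ, (r = s.val ∨ r = T7.neg s.val) → (r' = t.val ∨ r' = T7.neg t.val) → ∀ a b : K,
      T7.xU K r' b * T7.xU K r a = T7.xU K r a * T7.xU K r' b := by
    intro r r' hr hr' a b
    have hr0 : r < T7.n := by rcases hr with rfl | rfl; exacts [s.2, neg_lt' s.2]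
    have hr0' : r' < T7.n := by rcases hr' with rfl | rfl; exacts [t.2, neg_lt' t.2]
    have h1 : r' ≠ r ∧ r' ≠ T7.neg r ∧ T7.commT r r' = [] := by
      have n1 : T7.neg (T7.neg s.val) = s.val := neg_neg' s.2
      have n2 : T7.neg (T7.neg t.val) = t.val := neg_neg' t.2
      rcases hr with rfl | rfl <;> rcases hr' with rfl | rfl
      · exact ⟨hv, hsn, e1⟩
      · exact ⟨fun e => hsn (by rw [← n2, e]), fun e => hv (by rw [← n2, e, n1]), e2⟩
      · exact ⟨hsn, by rw [n1]; exact hv, e3⟩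
      · exact ⟨fun e => hv (by rw [← n2, e, n1]), by rw [n1]; exact fun e => hsn (by rw [← n2, e]), e4⟩
    rw [comm_xU hV Data.E7.chkComm hr0 hr0' h1.1 h1.2.1 a b, h1.2.2]
    simp
  have h2 : pair K s ≤ Subgroup.centralizer (pair K t : Set (GL T7.I K)) := by
    refine (Subgroup.closure_le _).2 ?_
    rintro _ ⟨r, -, hr, a, rfl⟩
    rw [SetLike.mem_coe, pair, Tbl.rootGen, Subgroup.centralizer_closure, Subgroup.mem_centralizer_iff]
    rintro _ ⟨r', -, hr', b, rfl⟩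
    exact key r r' hr hr' a b
  exact ((Subgroup.mem_centralizer_iff.1 (h2 hg)) h hh).symm

/-- The twisted monomial element. -/
theorem exists_reflect {σ : K →+* K} {q : ℕ} (hσ : ∀ x, σ x = x ^ q) (hq : 1 < q) {v : Equiv.Perm (Fin T7.n)}
    (hcyc : v (v (v (T7.simpF hV top))) = T7.simpF hV top) (hB1 : v (T7.simpF hV top) ∈ B)
    (hB2 : v (v (T7.simpF hV top)) ∈ B) (hne1 : T7.simpF hV top ≠ v (T7.simpF hV top))
    (hne2 : T7.simpF hV top ≠ v (v (T7.simpF hV top))) {m : GL T7.I K}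
    (hm : T7.Mono m v⁻¹) (P : Kˣ → Prop) (hP1 : P (-1)) (hPmul : ∀ x y, P x → P y → P (x * y))
    (hPinv : ∀ x, P x → P x⁻¹)
    (hconst : ∀ (s : Fin T7.n) (c : Kˣ), m * T7.xU K s.val 1 = T7.xU K (v⁻¹ s).val c * m → P c)
    (hroot : ∀ x, P x → ∃ a : Kˣ, a ^ (q ^ 6) = x * a)
    (hE : ∃ e : Kˣ, e ^ (q ^ 6) = e ∧ e ^ (q ^ 3) ≠ e) :
    ∃ L ∈ T7.rootGen K (fun _ => True),
      mapGL T7 σ L * m * L⁻¹ = m * T7.nU K (T7.simple top.val) 1 := by
  set b := T7.simpF hV top with hb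
  let Φ : GL T7.I K →* GL T7.I K := (MulAut.conj m⁻¹).toMonoidHom.comp (mapGL T7 σ)
  have hΦ : ∀ g, Φ g = m⁻¹ * mapGL T7 σ g * m := fun g => by simp [Φ]
  have hconj : ∀ s : Fin T7.n, ∃ c : Kˣ, P c ∧ ∀ t : K,
      Φ (T7.xU K s.val t) = T7.xU K (v s).val ((c : K) * σ t) ∧
        Φ (T7.xU K (T7.neg s.val) t) = T7.xU K (T7.neg (v s).val) (((c⁻¹ : Kˣ) : K) * σ t) := by
    intro s
    obtain ⟨c, hc⟩ := hm.conj (v s)
    have e : v⁻¹ (v s) = s := v.symm_apply_apply s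
    rw [e] at hc
    refine ⟨c⁻¹, hPinv _ (hconst (v s) c (by
      have h1 := (hc 1).1
      rw [mul_one] at h1
      rw [e]
      exact h1)), fun t => ⟨?_, ?_⟩⟩
    · rw [hΦ, map_xU σ hV s.2, mul_assoc, inv_mul_eq_iff_eq_mul, (hc _).1, ← mul_assoc (c : K), ← Units.val_mul,
        mul_inv_cancel, Units.val_one, one_mul]
    · rw [hΦ, map_xU σ hV (neg_lt' s.2), mul_assoc, inv_mul_eq_iff_eq_mul, (hc _).2, inv_inv,
        ← mul_assoc _ (c : K), ← Units.val_mul, inv_mul_cancel, Units.val_one, one_mul]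
  have hpair : ∀ (s : Fin T7.n) (g : GL T7.I K), g ∈ pair K s → Φ g ∈ pair K (v s) := by
    intro s g hg
    obtain ⟨c, -, hc⟩ := hconj s
    have : pair K s ≤ (pair K (v s)).comap Φ := by
      refine (Subgroup.closure_le _).2 ?_
      rintro _ ⟨r, -, hr, a, rfl⟩
      rcases hr with rfl | rfl
      · rw [SetLike.mem_coe, Subgroup.mem_comap, (hc a).1]; exact xU_mem_pair _ _
      · rw [SetLike.mem_coe, Subgroup.mem_comap, (hc a).2]; exact xU_neg_mem_pair _ _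
    exact this hg
  obtain ⟨c0, P0, h0⟩ := hconj b
  obtain ⟨c1, P1, h1⟩ := hconj (v b)
  obtain ⟨c2, P2, h2⟩ := hconj (v (v b))
  rw [hcyc] at h2
  let τ : K →+* K := σ.comp (σ.comp σ)
  have hτ : ∀ x, τ x = x ^ (q ^ 3) := fun x => by
    show σ (σ (σ x)) = _
    rw [hσ, hσ, hσ, ← pow_mul, ← pow_mul]
    ring_nf
  set κ : Kˣ := c2 * c1 ^ q * c0 ^ (q * q) with hκ
  have hPpow : ∀ x, P x → ∀ k : ℕ, P (x ^ k) := by
    intro x hx k
    induction k with
    | zero =>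
      have := hPmul _ _ hP1 hP1
      simpa using this
    | succ k ih => rw [pow_succ]; exact hPmul _ _ ih hx
  have hPκ : P κ := hPmul _ _ (hPmul _ _ P2 (hPpow _ P1 _)) (hPpow _ P0 _)
  have hup : ∀ t, Φ (Φ (Φ (T7.xU K b.val t))) = T7.xU K b.val ((κ : K) * τ t) := by
    intro t
    rw [(h0 t).1, (h1 _).1, (h2 _).1]
    congr 1
    show (c2 : K) * σ ((c1 : K) * σ ((c0 : K) * σ t)) = (κ : K) * σ (σ (σ t))
    simp only [hκ, map_mul, hσ, Units.val_mul, Units.val_pow_eq_pow_val]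
    ring
  have hdown : ∀ t, Φ (Φ (Φ (T7.xU K (T7.neg b.val) t))) =
      T7.xU K (T7.neg b.val) (((κ⁻¹ : Kˣ) : K) * τ t) := by
    intro t
    rw [(h0 t).2, (h1 _).2, (h2 _).2]
    congr 1
    show ((c2⁻¹ : Kˣ) : K) * σ (((c1⁻¹ : Kˣ) : K) * σ (((c0⁻¹ : Kˣ) : K) * σ t)) = ((κ⁻¹ : Kˣ) : K) * σ (σ (σ t))
    rw [hκ, _root_.mul_inv, _root_.mul_inv, ← inv_pow, ← inv_pow]
    simp only [map_mul, hσ, Units.val_mul, Units.val_pow_eq_pow_val]
    ring
  have h6 : q ^ 3 * q ^ 3 = q ^ 6 := by ring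
  obtain ⟨a, ha⟩ := hroot (-κ) (by rw [← neg_one_mul]; exact hPmul _ _ hP1 hPκ)
  obtain ⟨b', hb'⟩ := hroot (-((κ ^ (q ^ 3))⁻¹))
    (by rw [← neg_one_mul]; exact hPmul _ _ hP1 (hPinv _ (hPpow _ hPκ _)))
  obtain ⟨e, he, he'⟩ := hE
  obtain ⟨x, y, z, hxyz⟩ := lang_sl2 τ hτ κ a b' e (Nat.one_lt_pow (by norm_num) hq) (by rw [h6, ha])
    (by rw [h6, hb', neg_mul, mul_neg, ← mul_assoc, mul_inv_cancel, one_mul]) (by rw [h6, he]) he'
  let S := sl2Data (F := K) hV b.2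
  have hux : ∀ t, S.hom (SL2.ux t) = T7.xU K b.val t := fun t => S.hom_upper _ t rfl
  have hlx : ∀ t, S.hom (lx t) = T7.xU K (T7.neg b.val) t := fun t => S.hom_lower _ t rfl
  have hn : S.hom SL2.wn = T7.nU K b.val 1 := by
    show S.map SL2.wn = _
    have := S.map_wn_mul 1
    rwa [mul_one, S.map_one, mul_one] at this
  set l := T7.xU K b.val x * T7.xU K (T7.neg b.val) y * T7.xU K b.val z with hl
  have hlmem : l ∈ pair K b := mul_mem (mul_mem (xU_mem_pair _ _) (xU_neg_mem_pair _ _)) (xU_mem_pair _ _)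
  have h3 : Φ (Φ (Φ l)) = T7.nU K b.val 1 * l := by
    have e2 := congrArg S.hom hxyz
    simp only [map_mul, hux, hlx, hn] at e2
    rw [hl, map_mul, map_mul, map_mul, map_mul, map_mul, map_mul, hup, hup, hdown, e2]
  have hall : ∀ s, pair K s ≤ T7.rootGen K fun _ => True := fun s => rootGen_mono fun _ _ _ => trivial
  refine ⟨l * Φ l * Φ (Φ l), mul_mem (mul_mem (hall _ hlmem) (hall _ (hpair _ _ hlmem)))
    (hall _ (hpair _ _ (hpair _ _ hlmem))), ?_⟩
  have hΦ' : ∀ g, mapGL T7 σ g * m = m * Φ g := fun g => by rw [hΦ]; group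
  rw [hΦ', mul_assoc, mul_right_inj, map_mul, map_mul, mul_inv_eq_iff_eq_mul]
  have m3 : Φ (Φ (Φ l)) ∈ pair K b := by
    have := hpair _ _ (hpair _ _ (hpair _ _ hlmem))
    rwa [hcyc] at this
  calc Φ l * Φ (Φ l) * Φ (Φ (Φ l)) = Φ (Φ (Φ l)) * (Φ l * Φ (Φ l)) := by
        rw [← mul_assoc (Φ (Φ (Φ l))), pair_commute top_B hB1 hne1 m3 (hpair _ _ hlmem), mul_assoc,
          mul_assoc, pair_commute top_B hB2 hne2 m3 (hpair _ _ (hpair _ _ hlmem))]
    _ = T7.nU K b.val 1 * (l * Φ l * Φ (Φ l)) := by rw [h3]; simp only [mul_assoc]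

end CfsgLib.Chevalley.E7Torus
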